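import Groth.Agent.S1351
import Mathlib.RingTheory.Henselian
import Mathlib.RingTheory.Valuation.ValuationSubring
import Mathlib.FieldTheory.IsAlgClosed.Basic

/-!
# Idempotents of the generic fibre near a reduced special fibre over a valuation ring
-/

set_option autoImplicit false

universe u

open scoped nonZeroDivisors

namespace Groth.Agent.AlgSpDec.ConnVal

theorem exists_smul_of_mem_smul_top {R M : Type u} [CommRing R] [IsDomain R] [ValuationRing R] [AddCommGroup M]
    [Module R M] {I : Ideal R} {x : M} (hx : x ∈ I • (⊤ : Submodule R M)) : ∃ c ∈ I, ∃ y : M, x = c • y := by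
  refine Submodule.smul_induction_on hx (fun r hr n _ => ⟨r, hr, n, rfl⟩) fun a b ha hb => ?_
  ·
    obtain ⟨c, hc, y, rfl⟩ := ha
    obtain ⟨c', hc', y', rfl⟩ := hb
    rcases ValuationRing.dvd_total c c' with ⟨e, rfl⟩ | ⟨e, rfl⟩
    · exact ⟨c, hc, y + e • y', by rw [smul_add, smul_smul]⟩
    · exact ⟨c', hc', e • y + y', by rw [smul_add, smul_smul]⟩

variable {R B : Type u} [CommRing R] [IsDomain R] [ValuationRing R] [CommRing B] [Algebra R B]

/-- The coordinate ring of the generic fibre. -/
abbrev GenRing (R B : Type u) [CommRing R] [CommRing B] [Algebra R B] : Type u :=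
  Localization (Algebra.algebraMapSubmonoid B R⁰)

/-- An idempotent with values in an overring of a local ring with reduced special fibre is trivial. -/
theorem idempotent_eq_zero_or_one {Bq L : Type u} [CommRing Bq] [IsLocalRing Bq] [Algebra R Bq]
    [IsLocalHom (algebraMap R Bq)] [Algebra.EssFiniteType R Bq] [CommRing L] [Algebra R L] [Algebra Bq L]
    [IsScalarTower R Bq L] (hinj : Function.Injective (algebraMap Bq L))
    (hR : ∀ r : R, r ≠ 0 → IsUnit (algebraMap R L r))
    (hred : ∀ b : Bq, b * b ∈ (IsLocalRing.maximalIdeal R).map (algebraMap R Bq) →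
      b ∈ (IsLocalRing.maximalIdeal R).map (algebraMap R Bq))
    {ε : L} (hε : ε * ε = ε) {r : R} (hr : r ≠ 0) {b₀ : Bq} (hre : algebraMap R L r * ε = algebraMap Bq L b₀) :
    ε = 0 ∨ ε = 1 := by
  let m := IsLocalRing.maximalIdeal R
  let M : Submodule Bq L := Submodule.span Bq {1, ε}
  haveI : Module.Finite Bq M := Module.Finite.span_of_finite Bq (Set.toFinite _)
  have hflatM : Module.Flat R M := by
    refine (Module.Flat.flat_iff_torsion_eq_bot_of_isBezout (R := R) (M := ↥M)).2 (eq_bot_iff.2 ?_)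
    rintro x ⟨⟨c, hc⟩, hcx⟩
    have h : algebraMap R L c * (x : L) = 0 := by
      rw [← Algebra.smul_def]
      exact congrArg Subtype.val hcx
    exact Subtype.ext ((hR c (nonZeroDivisors.ne_zero hc)).mul_right_eq_zero.1 h)
  let u : Bq →ₗ[Bq] M := LinearMap.toSpanSingleton Bq M ⟨1, Submodule.subset_span (Set.mem_insert _ _)⟩
  have hu' : ∀ b, ((u b : M) : L) = algebraMap Bq L b := fun b => by
    show b • (1 : L) = _
    rw [Algebra.smul_def, mul_one]
  have key : ∀ b : Bq, u b ∈ m • (⊤ : Submodule R M) → b ∈ m • (⊤ : Submodule R Bq) := by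
    intro b hb
    obtain ⟨c, hc, ⟨y, hy⟩, hby⟩ := exists_smul_of_mem_smul_top hb
    obtain ⟨y₁, y₂, hy12⟩ := Submodule.mem_span_pair.1 hy
    have h1 : algebraMap Bq L b = algebraMap R L c * (algebraMap Bq L y₁ + algebraMap Bq L y₂ * ε) := by
      rw [← hu' b, hby, Submodule.coe_smul_of_tower, Algebra.smul_def]
      show _ * y = _
      rw [← hy12, Algebra.smul_def, Algebra.smul_def, mul_one]
    have hc' : algebraMap Bq L (algebraMap R Bq c) = algebraMap R L c :=
      (IsScalarTower.algebraMap_apply R Bq L c).symm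
    have h2 : (b - algebraMap R Bq c * y₁) * (b - algebraMap R Bq c * y₁ - algebraMap R Bq c * y₂) = 0 := hinj (by
      simp only [map_mul, map_sub, map_zero, hc', h1]
      linear_combination ((algebraMap R L c * algebraMap Bq L y₂) ^ 2) * hε)
    rw [Ideal.smul_top_eq_map]
    refine hred b ?_
    have : b * b = algebraMap R Bq c * (b * (2 * y₁ + y₂) - algebraMap R Bq c * y₁ * (y₁ + y₂)) := by
      linear_combination h2
    rw [this]
    exact Ideal.mul_mem_right _ _ (Ideal.mem_map_of_mem _ hc)
  haveI := hflatM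
  obtain ⟨-, hflat⟩ := Groth.Agent.S1351.result (A := R) (B := Bq) u (by
    intro x y hxy
    obtain ⟨a, rfl⟩ := Submodule.mkQ_surjective _ x
    obtain ⟨b, rfl⟩ := Submodule.mkQ_surjective _ y
    rw [Submodule.mkQ_apply, Submodule.mkQ_apply, Submodule.mapQ_apply, Submodule.mapQ_apply, Submodule.Quotient.eq] at hxy
    rw [Submodule.mkQ_apply, Submodule.mkQ_apply, Submodule.Quotient.eq]
    exact key _ (by rwa [map_sub]))
  have hεM : ε ∈ M := Submodule.subset_span (Set.mem_insert_of_mem _ rfl)
  have h0 : (Submodule.Quotient.mk ⟨ε, hεM⟩ : M ⧸ LinearMap.range u) = 0 := by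
    have ht : (Submodule.Quotient.mk ⟨ε, hεM⟩ : M ⧸ LinearMap.range u) ∈ Submodule.torsion R (M ⧸ LinearMap.range u) := by
      refine ⟨⟨r, mem_nonZeroDivisors_of_ne_zero hr⟩, ?_⟩
      show r • (Submodule.Quotient.mk ⟨ε, hεM⟩ : M ⧸ LinearMap.range u) = 0
      rw [← Submodule.Quotient.mk_smul, Submodule.Quotient.mk_eq_zero]
      refine ⟨b₀, Subtype.ext ?_⟩
      rw [hu', ← hre, Submodule.coe_smul_of_tower, Algebra.smul_def]
    rwa [Module.Flat.torsion_eq_bot, Submodule.mem_bot] at ht
  rw [Submodule.Quotient.mk_eq_zero] at h0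
  obtain ⟨d, hd⟩ := h0
  have hd' : algebraMap Bq L d = ε := by rw [← hu', hd]
  have hdd : IsIdempotentElem d := hinj (by rw [map_mul, hd', hε])
  have hd1 : d = 0 ∨ d = 1 := by
    rcases IsLocalRing.isUnit_or_isUnit_one_sub_self d with h | h
    · exact Or.inr (h.mul_left_cancel (hdd.eq.trans (mul_one d).symm))
    · exact Or.inl (h.mul_right_eq_zero.1 (by rw [sub_mul, one_mul, hdd.eq, sub_self]))
  rcases hd1 with h | h
  · exact Or.inl (by rw [← hd', h, map_zero])
  · exact Or.inr (by rw [← hd', h, map_one])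

variable [Algebra.FiniteType R B] [Module.Flat R B]

/-- An idempotent of the generic fibre is trivial near a point of a reduced special fibre. -/
theorem trivial_near (q : Ideal B) [q.IsPrime] (hq : IsLocalRing.maximalIdeal R ≤ q.comap (algebraMap R B))
    (hred : ((IsLocalRing.maximalIdeal R).map (algebraMap R B)).IsRadical) (e : GenRing R B)
    (he : IsIdempotentElem e) :
    ∃ s : B, s ∉ q ∧ (algebraMap B (GenRing R B) s * e = 0 ∨ algebraMap B (GenRing R B) s * (1 - e) = 0) := by
  let Bq := Localization.AtPrime q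
  let G := GenRing R B
  let T : Submonoid G := q.primeCompl.map (algebraMap B G)
  let Lq := Localization T
  have hu : ∀ y : q.primeCompl, IsUnit (((algebraMap G Lq).comp (algebraMap B G)) y) := fun y =>
    IsLocalization.map_units Lq (⟨algebraMap B G y, Submonoid.mem_map_of_mem _ y.2⟩ : T)
  let φ : Bq →+* Lq := IsLocalization.lift hu
  letI : Algebra Bq Lq := φ.toAlgebra
  have hφ : ∀ b : B, φ (algebraMap B Bq b) = algebraMap G Lq (algebraMap B G b) := fun b => IsLocalization.lift_eq hu b
  haveI : IsScalarTower R Bq Lq := IsScalarTower.of_algebraMap_eq fun r => by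
    rw [IsScalarTower.algebraMap_apply R G Lq]
    show algebraMap G Lq (algebraMap R G r) = φ (algebraMap R Bq r)
    rw [IsScalarTower.algebraMap_apply R B Bq, hφ, IsScalarTower.algebraMap_apply R B G]
  haveI : Algebra.EssFiniteType R Bq := Algebra.EssFiniteType.comp R B Bq
  haveI : IsLocalHom (algebraMap R Bq) := ⟨fun r hr => by
    by_contra hn
    have hrq : algebraMap R B r ∈ q := hq ((IsLocalRing.mem_maximalIdeal r).2 hn)
    rw [IsScalarTower.algebraMap_apply R B Bq, IsLocalization.AtPrime.isUnit_to_map_iff Bq q] at hr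
    exact hr hrq⟩
  have hR : ∀ r : R, r ≠ 0 → IsUnit (algebraMap R Lq r) := fun r hr => by
    rw [IsScalarTower.algebraMap_apply R G Lq, IsScalarTower.algebraMap_apply R B G]
    exact (IsLocalization.map_units G (⟨algebraMap B B (algebraMap R B r),
      r, mem_nonZeroDivisors_of_ne_zero hr, rfl⟩ : Algebra.algebraMapSubmonoid B R⁰)).map (algebraMap G Lq)
  have htfB : ∀ (c : R) (a : B), c ≠ 0 → c • a = 0 → a = 0 := fun c a hc ha => by
    by_contra ha0
    have h3 : a ∈ Submodule.torsion R B := ⟨⟨c, mem_nonZeroDivisors_of_ne_zero hc⟩, ha⟩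
    rw [Module.Flat.torsion_eq_bot, Submodule.mem_bot] at h3
    exact ha0 h3
  have hinj : Function.Injective φ := by
    refine (injective_iff_map_eq_zero φ).2 fun x hx => ?_
    obtain ⟨a, t, rfl⟩ := IsLocalization.exists_mk'_eq q.primeCompl x
    rw [IsLocalization.lift_mk', Units.mul_left_eq_zero] at hx
    obtain ⟨⟨y, hy⟩, h1⟩ := (IsLocalization.map_eq_zero_iff T Lq _).1 hx
    obtain ⟨u, hu, rfl⟩ := Submonoid.mem_map.1 hy
    have h1' : algebraMap B G (u * a) = 0 := by rw [map_mul]; exact h1
    obtain ⟨⟨_, r, hr, rfl⟩, h2⟩ := (IsLocalization.map_eq_zero_iff (Algebra.algebraMapSubmonoid B R⁰) G _).1 h1'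
    have h3 : u * a = 0 := htfB r _ (nonZeroDivisors.ne_zero hr) (by rw [Algebra.smul_def]; exact h2)
    exact (IsLocalization.mk'_eq_zero_iff _ _).2 ⟨⟨u, hu⟩, h3⟩
  have hred' : ∀ b : Bq, b * b ∈ (IsLocalRing.maximalIdeal R).map (algebraMap R Bq) →
      b ∈ (IsLocalRing.maximalIdeal R).map (algebraMap R Bq) := by
    intro b h3
    obtain ⟨a, t, rfl⟩ := IsLocalization.exists_mk'_eq q.primeCompl b
    rw [IsScalarTower.algebraMap_eq R B Bq, ← Ideal.map_map] at h3 ⊢
    rw [← IsLocalization.mk'_mul, IsLocalization.mk'_mem_map_algebraMap_iff q.primeCompl] at h3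
    rw [IsLocalization.mk'_mem_map_algebraMap_iff q.primeCompl]
    obtain ⟨s, hs, hsa⟩ := h3
    refine ⟨s, hs, hred ⟨2, ?_⟩⟩
    rw [show (s * a) ^ 2 = s * (s * (a * a)) by ring]
    exact Ideal.mul_mem_left _ _ hsa
  obtain ⟨b₀, ⟨y, r, hr, hy⟩, hre⟩ := IsLocalization.exists_mk'_eq (Algebra.algebraMapSubmonoid B R⁰) e
  have hre' : algebraMap R Lq r * algebraMap G Lq e = φ (algebraMap B Bq b₀) := by
    have h := IsLocalization.mk'_spec G b₀ (⟨y, r, hr, hy⟩ : Algebra.algebraMapSubmonoid B R⁰)
    rw [hre] at h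
    rw [hφ, IsScalarTower.algebraMap_apply R G Lq, ← map_mul, mul_comm, IsScalarTower.algebraMap_apply R B G, ← h]
    congr 3
  have fin : ∀ x : G, algebraMap G Lq x = 0 → ∃ s, s ∉ q ∧ algebraMap B G s * x = 0 := fun x hx => by
    obtain ⟨⟨y, hy⟩, h1⟩ := (IsLocalization.map_eq_zero_iff T Lq x).1 hx
    obtain ⟨s, hs, rfl⟩ := Submonoid.mem_map.1 hy
    exact ⟨s, hs, h1⟩
  rcases idempotent_eq_zero_or_one hinj hR hred' (show algebraMap G Lq e * algebraMap G Lq e = algebraMap G Lq e by
    rw [← map_mul, he.eq]) (nonZeroDivisors.ne_zero hr) hre' with h | h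
  · obtain ⟨s, hs, h1⟩ := fin e h
    exact ⟨s, hs, Or.inl h1⟩
  · obtain ⟨s, hs, h1⟩ := fin (1 - e) (by rw [map_sub, map_one, h, sub_self])
    exact ⟨s, hs, Or.inr h1⟩

/-- A split of the generic fibre has closures which do not meet at a point of the reduced special fibre. -/
theorem notMem_closure_or {W : Set (PrimeSpectrum (GenRing R B))} (hW : IsClopen W) (q : PrimeSpectrum B)
    (hq : IsLocalRing.maximalIdeal R ≤ q.asIdeal.comap (algebraMap R B))
    (hred : ((IsLocalRing.maximalIdeal R).map (algebraMap R B)).IsRadical) :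
    q ∉ closure (PrimeSpectrum.comap (algebraMap B (GenRing R B)) '' W) ∨
      q ∉ closure (PrimeSpectrum.comap (algebraMap B (GenRing R B)) '' Wᶜ) := by
  obtain ⟨e, he, rfl⟩ := PrimeSpectrum.exists_idempotent_basicOpen_eq_of_isClopen hW
  obtain ⟨s, hs, h | h⟩ := trivial_near q.asIdeal hq hred e he
  · refine Or.inl fun hc => hs ?_
    have : closure (PrimeSpectrum.comap (algebraMap B (GenRing R B)) '' ↑(PrimeSpectrum.basicOpen e)) ⊆
        PrimeSpectrum.zeroLocus {s} := by
      refine closure_minimal ?_ (PrimeSpectrum.isClosed_zeroLocus _)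
      rintro _ ⟨p, hp, rfl⟩
      rw [PrimeSpectrum.mem_zeroLocus, Set.singleton_subset_iff]
      exact (p.isPrime.mem_or_mem (h ▸ p.asIdeal.zero_mem)).resolve_right hp
    simpa using this hc
  · refine Or.inr fun hc => hs ?_
    have : closure (PrimeSpectrum.comap (algebraMap B (GenRing R B)) '' (↑(PrimeSpectrum.basicOpen e))ᶜ) ⊆
        PrimeSpectrum.zeroLocus {s} := by
      refine closure_minimal ?_ (PrimeSpectrum.isClosed_zeroLocus _)
      rintro _ ⟨p, hp, rfl⟩
      rw [PrimeSpectrum.mem_zeroLocus, Set.singleton_subset_iff]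
      refine (p.isPrime.mem_or_mem (h ▸ p.asIdeal.zero_mem)).resolve_right fun h' => ?_
      refine p.isPrime.ne_top ((Ideal.eq_top_iff_one _).2 ?_)
      have hep : e ∈ p.asIdeal := by
        by_contra hn
        exact hp hn
      simpa using p.asIdeal.add_mem h' hep
    simpa using this hc

section AlgClosed

variable {K : Type u} [Field K] [IsAlgClosed K] (A : ValuationSubring K)

theorem mem_of_root {f : Polynomial A} (hf : f.Monic) {r : K} (hr : Polynomial.eval₂ (algebraMap A K) r f = 0) :
    r ∈ A := by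
  obtain ⟨y, hy⟩ := IsIntegrallyClosed.isIntegral_iff.1 (⟨f, hf, hr⟩ : IsIntegral A r)
  exact hy ▸ y.2

theorem exists_prod_eq {f : Polynomial A} (hf : f.Monic) :
    ∃ s : Multiset A, f = (s.map fun a => Polynomial.X - Polynomial.C a).prod := by
  let g := f.map (algebraMap A K)
  have hg : g.Monic := hf.map _
  have hroot : ∀ r ∈ g.roots, r ∈ A := fun r hr => mem_of_root A hf (by
    rw [← Polynomial.eval_map]
    exact (Polynomial.mem_roots'.1 hr).2)
  refine ⟨g.roots.attach.map fun r => ⟨r.1, hroot r.1 r.2⟩, ?_⟩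
  refine Polynomial.map_injective (algebraMap A K) Subtype.val_injective ?_
  rw [Polynomial.map_multiset_prod, Multiset.map_map, Multiset.map_map]
  have h1 : g.roots.attach.map ((Polynomial.map (algebraMap A K) ∘ fun a => Polynomial.X - Polynomial.C a) ∘
      fun r => ⟨r.1, hroot r.1 r.2⟩) = g.roots.map fun r => Polynomial.X - Polynomial.C r := by
    conv_rhs => rw [← Multiset.attach_map_val g.roots, Multiset.map_map]
    refine Multiset.map_congr rfl fun r _ => ?_
    show Polynomial.map (algebraMap A K) (Polynomial.X - Polynomial.C _) = _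
    rw [Polynomial.map_sub, Polynomial.map_X, Polynomial.map_C]
    rfl
  rw [h1]
  exact ((IsAlgClosed.splits g).eq_prod_roots_of_monic hg)

/-- A valuation ring of an algebraically closed field is henselian. -/
instance henselianLocalRing : HenselianLocalRing A where
  is_henselian f hf a₀ h₁ h₂ := by
    obtain ⟨s, rfl⟩ := exists_prod_eq A hf
    rw [Polynomial.eval_multiset_prod, Multiset.map_map] at h₁
    obtain ⟨a, ha, hmem⟩ := ((IsLocalRing.maximalIdeal.isMaximal A).isPrime.multiset_prod_mem_iff_exists_mem _).1 h₁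
    obtain ⟨a', ha', rfl⟩ := Multiset.mem_map.1 ha
    refine ⟨a', ?_, ?_⟩
    · rw [Polynomial.IsRoot, Polynomial.eval_multiset_prod, Multiset.map_map]
      exact Multiset.prod_eq_zero (Multiset.mem_map.2 ⟨a', ha', by simp⟩)
    · have h3 : a₀ - a' ∈ IsLocalRing.maximalIdeal A := by simpa using hmem
      rw [← neg_sub a₀ a']
      exact (IsLocalRing.maximalIdeal A).neg_mem h3

/-- The residue field of a valuation ring of an algebraically closed field is algebraically closed. -/
instance isAlgClosed_residueField : IsAlgClosed (IsLocalRing.ResidueField A) := by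
  refine IsAlgClosed.of_exists_root _ fun p hp hirr => ?_
  have hsurj : Function.Surjective (IsLocalRing.residue A) := IsLocalRing.residue_surjective
  obtain ⟨f, hf, hdeg, hmon⟩ := Polynomial.lifts_and_degree_eq_and_monic
    (Polynomial.map_surjective (IsLocalRing.residue A) hsurj p) hp
  obtain ⟨s, rfl⟩ := exists_prod_eq A hmon
  rcases Multiset.empty_or_exists_mem s with rfl | ⟨a, ha⟩
  · rw [Multiset.map_zero, Multiset.prod_zero, Polynomial.map_one] at hf
    exact absurd hirr (hf ▸ not_irreducible_one)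
  · refine ⟨IsLocalRing.residue A a, ?_⟩
    rw [← hf, Polynomial.eval_map, Polynomial.eval₂_at_apply, Polynomial.eval_multiset_prod, Multiset.map_map,
      Multiset.prod_eq_zero (Multiset.mem_map.2 ⟨a, ha, by simp⟩), map_zero]

end AlgClosed

end Groth.Agent.AlgSpDec.ConnVal
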