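import Groth.Agent.AlgSpDec.ConnVal.Alg
import Groth.Agent.S8533
import Groth.Agent.EtQC.Chev.ProperCover
import Groth.Agent.AlgSpDec.DecentMor
import Groth.Agent.AlgSpDec.LimDescent
import Groth.Agent.AlgSpDec.OneFlat
import Groth.Agent.AlgSpDec.BddFibres
import Groth.Agent.AlgSpDec.LimDescentRep
import Groth.Agent.AlgSpPts.Imm
import Groth.Agent.FlatMisc.DvrConn
import Groth.Agent.AlgSpLib.LocP

/-!
# Connected components of a proper flat space over a valuation ring
-/

set_option autoImplicit false
set_option backward.isDefEq.respectTransparency false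
set_option backward.isDefEq.respectTransparency.types false

universe u

open CategoryTheory CategoryTheory.Limits AlgebraicGeometry AlgSp TopologicalSpace Topology
open Groth.Agent.AlgSpLib Groth.Agent.AlgSpPts Groth.Agent.AlgSpDec
open scoped nonZeroDivisors

namespace Groth.Agent.AlgSpDec.ConnVal

theorem finite_cc_of_noetherianSpace (A : Type*) [TopologicalSpace A] [NoetherianSpace A] :
    Finite (_root_.ConnectedComponents A) := by
  haveI : Finite ↥(irreducibleComponents A) := NoetherianSpace.finite_irreducibleComponents.to_subtype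
  refine Finite.of_surjective (fun Z : ↥(irreducibleComponents A) => ConnectedComponents.mk Z.2.1.nonempty.some) ?_
  intro c
  obtain ⟨x, rfl⟩ := ConnectedComponents.surjective_coe c
  refine ⟨⟨irreducibleComponent x, irreducibleComponent_mem_irreducibleComponents x⟩, ?_⟩
  refine ConnectedComponents.coe_eq_coe'.2 ?_
  exact (isIrreducible_irreducibleComponent (x := x)).isPreirreducible.isPreconnected.subset_connectedComponent
    mem_irreducibleComponent (Set.Nonempty.some_mem _)

theorem finite_cc_of_surjective {A B : Type*} [TopologicalSpace A] [TopologicalSpace B]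
    [Finite (_root_.ConnectedComponents A)] {f : A → B} (hf : Continuous f) (hs : Function.Surjective f) :
    Finite (_root_.ConnectedComponents B) := by
  refine Finite.of_surjective hf.connectedComponentsMap fun c => ?_
  obtain ⟨b, rfl⟩ := ConnectedComponents.surjective_coe c
  obtain ⟨a, rfl⟩ := hs b
  exact ⟨ConnectedComponents.mk a, rfl⟩

theorem isClopen_preimage_mk {A : Type*} [TopologicalSpace A] [Finite (_root_.ConnectedComponents A)]
    (s : Set (_root_.ConnectedComponents A)) : IsClopen (ConnectedComponents.mk ⁻¹' s) :=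
  (isClopen_discrete s).preimage ConnectedComponents.continuous_coe

theorem cc_injective {A B : Type*} [TopologicalSpace A] [TopologicalSpace B]
    [Finite (_root_.ConnectedComponents A)] {f : A → B} (hf : Continuous f)
    (h : ∀ W : Set A, IsClopen W → ∃ W' : Set B, IsClopen W' ∧ f ⁻¹' W' = W) :
    Function.Injective hf.connectedComponentsMap := by
  intro c c' hcc
  obtain ⟨a, rfl⟩ := ConnectedComponents.surjective_coe c
  obtain ⟨a', rfl⟩ := ConnectedComponents.surjective_coe c'
  obtain ⟨W', hW', he⟩ := h _ (isClopen_preimage_mk {ConnectedComponents.mk a})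
  have h1 : ConnectedComponents.mk (f a) = ConnectedComponents.mk (f a') := hcc
  have h2 : f a' ∈ W' := by
    refine hW'.connectedComponent_subset (show f a ∈ W' from ?_) ?_
    · show a ∈ f ⁻¹' W'
      rw [he]; rfl
    · exact ConnectedComponents.coe_eq_coe'.1 h1.symm
  have h3 : a' ∈ ConnectedComponents.mk ⁻¹' ({ConnectedComponents.mk a} : Set _) := he ▸ h2
  exact (Set.mem_singleton_iff.1 h3).symm

variable {S : Scheme.{u}}

/-- A quasi-compact space locally of finite type over a field has finitely many components. -/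
theorem finite_cc {L : Type u} [Field L] {str : Spec (CommRingCat.of L) ⟶ S} {Q : Sp S}
    (qQ : Q ⟶ (yon S).obj (Over.mk str)) (hl : LocP @LocallyOfFiniteType qQ) (hqc : IsQuasiCompactSp Q) :
    Finite (_root_.ConnectedComponents (Points Q)) := by
  obtain ⟨U, c, hU, hc, hcs⟩ := AlgSpDec.exists_affine_atlas hqc
  obtain ⟨h, hh⟩ := (yon S).map_surjective (c ≫ qQ)
  let h' : U.left ⟶ Spec (CommRingCat.of L) := h.left
  haveI : LocallyOfFiniteType h' := hl c (𝟙 _) h hc (repWith_id _ _) (by rw [hh, Category.comp_id])
  haveI : IsLocallyNoetherian U.left := LocallyOfFiniteType.isLocallyNoetherian h'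
  haveI : IsNoetherian U.left := {}
  haveI : Finite (_root_.ConnectedComponents ↥U.left) := finite_cc_of_noetherianSpace _
  exact finite_cc_of_surjective (Points.continuous_ofPt c) (surjective_ofPt hcs)

variable {R : Type u} [CommRing R] [IsDomain R] [ValuationRing R] (str : Spec (CommRingCat.of R) ⟶ S)

/-- The closed point. -/
noncomputable abbrev cpt (R : Type u) [CommRing R] [IsLocalRing R] : ↥(Spec (CommRingCat.of R)) :=
  IsLocalRing.closedPoint R

/-- The closed field point of the base. -/
noncomputable abbrev pc : Over S := Over.mk ((Spec (CommRingCat.of R)).fromSpecResidueField (cpt R) ≫ str)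

/-- The inclusion of the closed point. -/
noncomputable abbrev jc : pc str ⟶ Over.mk str :=
  Over.homMk ((Spec (CommRingCat.of R)).fromSpecResidueField (cpt R)) rfl

variable (K : Type u) [Field K] [Algebra R K]

/-- The generic field point of the base. -/
noncomputable abbrev pg : Over S := Over.mk (Spec.map (CommRingCat.ofHom (algebraMap R K)) ≫ str)

/-- The inclusion of the generic point. -/
noncomputable abbrev jg : pg str K ⟶ Over.mk str :=
  Over.homMk (Spec.map (CommRingCat.ofHom (algebraMap R K))) rfl

variable {P : Space S} (q : P.obj ⟶ (yon S).obj (Over.mk str))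

/-- The special fibre. -/
noncomputable abbrev Pc : Sp S := pullback q ((yon S).map (jc str))

/-- The generic fibre. -/
noncomputable abbrev Pg : Sp S := pullback q ((yon S).map (jg str K))

/-- The point of the base under a point. -/
noncomputable def base (x : Points P.obj) : ↥(Spec (CommRingCat.of R)) :=
  Points.toScheme (Over.mk str) (Points.map q x)

variable {str q}

theorem map_eq_iff {x : Points P.obj} {r : ↥(Spec (CommRingCat.of R))} :
    base str q x = r ↔ Points.map q x = Points.ofScheme (Over.mk str) r :=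
  ⟨fun h => ((Points.schemeHomeo (Over.mk str)).apply_symm_apply (Points.map q x)).symm.trans
      (congrArg (Points.ofScheme (Over.mk str)) h),
    fun h => by rw [base, h, Points.toScheme_ofScheme]⟩

theorem base_ofPt {U : Over S} {c : (yon S).obj U ⟶ P.obj} {h : U ⟶ Over.mk str} (hh : (yon S).map h = c ≫ q)
    (u : ↥U.left) : base str q (Points.ofPt c u) = h.left u := by
  rw [base, Points.map_ofPt, ← hh]
  exact Points.toScheme_ofPt h u

theorem range_fst {r : Over S} (j : r ⟶ Over.mk str) :
    Set.range (Points.map (pullback.fst q ((yon S).map j))) = base str q ⁻¹' Set.range j.left := by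
  ext x
  constructor
  · rintro ⟨z, rfl⟩
    obtain ⟨t, ht⟩ := (Points.schemeHomeo r).surjective (Points.map (pullback.snd q ((yon S).map j)) z)
    refine ⟨t, ?_⟩
    rw [base, ← Points.map_comp, pullback.condition, Points.map_comp, ← ht]
    exact ((congrArg (Points.toScheme _) (Points.map_yon_map_apply j t)).trans (Points.toScheme_ofScheme _ _)).symm
  · rintro ⟨t, ht⟩
    obtain ⟨z, hz, -⟩ := exists_point_of_isPullback (IsPullback.of_hasPullback q ((yon S).map j)) (x := x)
      (y := Points.schemeHomeo r t) (by
        rw [map_eq_iff.1 ht.symm]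
        exact (Points.map_yon_map_apply j t).symm)
    exact ⟨z, hz⟩

variable (str)

theorem range_jc : Set.range (jc str).left = {cpt R} := by
  show Set.range ((Spec (CommRingCat.of R)).fromSpecResidueField (cpt R)) = _
  rw [Scheme.range_fromSpecResidueField]

theorem range_jg [IsFractionRing R K] : Set.range (jg str K).left = {(⟨⊥, Ideal.isPrime_bot⟩ : PrimeSpectrum R)} := by
  refine Set.eq_singleton_iff_unique_mem.2 ⟨⟨IsLocalRing.closedPoint K, ?_⟩, ?_⟩
  all_goals first | (rintro _ ⟨t, rfl⟩) | skip
  all_goals
    refine PrimeSpectrum.ext ?_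
    show Ideal.comap (algebraMap R K) _ = ⊥
  · rw [show (IsLocalRing.closedPoint K).asIdeal = ⊥ from IsLocalRing.maximalIdeal_eq_bot]
    exact Ideal.comap_bot_of_injective _ (IsFractionRing.injective R K)
  · rw [show PrimeSpectrum.asIdeal (R := K) t = ⊥ from (Ideal.eq_bot_or_top _).resolve_right t.2.ne_top]
    exact Ideal.comap_bot_of_injective _ (IsFractionRing.injective R K)

variable {str}
variable (hp : IsProperMor q) (hfl : LocP @Flat q)

include hp in
theorem isClosedMap_q : IsClosedMap (Points.map q) :=
  hp.2.2 (IsAlgSpace.yon_obj _) (𝟙 _) (𝟙 _) _ (IsPullback.of_horiz_isIso ⟨by rw [Category.id_comp, Category.comp_id]⟩)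

include hp in
theorem exists_mem_closedPoint {A : Set (Points P.obj)} (hA : IsClosed A) (hne : A.Nonempty) :
    ∃ x ∈ A, base str q x = cpt R := by
  obtain ⟨a, ha⟩ := hne
  have h1 : Points.ofScheme (Over.mk str) (cpt R) ∈ Points.map q '' A := by
    refine ((IsLocalRing.specializes_closedPoint (base str q a)).map
      (Points.schemeHomeo (Over.mk str)).continuous).mem_closed (isClosedMap_q hp _ hA) ⟨a, ha, ?_⟩
    exact map_eq_iff.1 rfl
  obtain ⟨x, hx, he⟩ := h1
  exact ⟨x, hx, map_eq_iff.2 he⟩

include hfl in
theorem exists_mem_generic [IsFractionRing R K] {O : Set (Points P.obj)} (hO : IsOpen O) (hne : O.Nonempty) :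
    ∃ z : Points (Pg str K q), Points.map (pullback.fst q ((yon S).map (jg str K))) z ∈ O := by
  obtain ⟨x, hx⟩ := hne
  obtain ⟨U, c, u, -, hc, hu⟩ := exists_affine_chart_at P.property x
  obtain ⟨h, hh⟩ := (yon S).map_surjective (c ≫ q)
  let h' : U.left ⟶ Spec (CommRingCat.of R) := h.left
  haveI : Flat h' := hfl c (𝟙 _) h hc (repWith_id _ _) (by rw [hh, Category.comp_id])
  let η : ↥(Spec (CommRingCat.of R)) := (⟨⊥, Ideal.isPrime_bot⟩ : PrimeSpectrum R)
  have hsp : η ⤳ h' u := (PrimeSpectrum.le_iff_specializes (η : PrimeSpectrum R) (h' u)).1 bot_le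
  obtain ⟨v, hv, hvη⟩ := Flat.generalizingMap (f := h') hsp
  have hvO : Points.ofPt c v ∈ O := (hv.map (Points.continuous_ofPt c)).mem_open hO (hu.symm ▸ hx)
  obtain ⟨z, hz⟩ := (range_fst (jg str K)).ge
    (show Points.ofPt c v ∈ base str q ⁻¹' Set.range (jg str K).left by
      rw [Set.mem_preimage, base_ofPt hh, range_jg str K]
      exact hvη)
  exact ⟨z, hz ▸ hvO⟩

include hp in
theorem finite_cc_pullback {L : Type u} [Field L] {s' : Spec (CommRingCat.of L) ⟶ S}
    (j : Over.mk s' ⟶ Over.mk str) :
    Finite (_root_.ConnectedComponents (Points (pullback q ((yon S).map j)))) := by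
  have sq := IsPullback.of_hasPullback q ((yon S).map j)
  refine finite_cc (pullback.snd q ((yon S).map j))
    (locP_of_isPullback sq P.property (IsAlgSpace.yon_obj _) (IsAlgSpace.yon_obj _) hp.2.1.1) ?_
  exact (isQuasiCompactMor_of_isPullback sq hp.2.1.2) (IsAlgSpace.yon_obj _)
    ((AlgSpPts.isQuasiCompactSp_yon_iff _).2 (inferInstanceAs (CompactSpace (PrimeSpectrum L)))) (𝟙 _) (𝟙 _) _
    (IsPullback.of_horiz_isIso ⟨by rw [Category.id_comp, Category.comp_id]⟩)

include hp in
theorem finite_cc_special : Finite (_root_.ConnectedComponents (Points (Pc str q))) :=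
  finite_cc_pullback hp (L := (Spec (CommRingCat.of R)).residueField (cpt R)) (jc str)

theorem isClosedImmersion_jc : IsClosedImmersion (jc str).left :=
  haveI : IsPreimmersion (jc str).left :=
    inferInstanceAs (IsPreimmersion ((Spec (CommRingCat.of R)).fromSpecResidueField (cpt R)))
  IsClosedImmersion.of_isPreimmersion _ (by
    rw [range_jc str]
    exact (PrimeSpectrum.isClosed_singleton_iff_isMaximal _).2 (IsLocalRing.maximalIdeal.isMaximal R))

include hp in
theorem bijective_special [HenselianLocalRing R] :
    Function.Bijective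
      (Points.continuous_map (pullback.fst q ((yon S).map (jc str)))).connectedComponentsMap := by
  let i := pullback.fst q ((yon S).map (jc str))
  have hi : RepWith @IsImmersion i :=
    repWith_of_isPullback (IsPullback.of_hasPullback q ((yon S).map (jc str))).flip
      ((repWith_yon_map_iff _ _).2 (show IsImmersion (jc str).left by haveI := isClosedImmersion_jc (str := str); infer_instance))
  have hinj : Function.Injective (Points.map i) := (isEmbedding_map P.property hi).injective
  haveI := finite_cc_special hp
  haveI : CompactSpace ↥(Over.mk str).left := inferInstanceAs (CompactSpace (PrimeSpectrum R))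
  haveI : IsAffine (Over.mk str).left := inferInstanceAs (IsAffine (Spec (CommRingCat.of R)))
  have hqc : IsQuasiCompactSp P.obj :=
    hp.2.1.2 (IsAlgSpace.yon_obj _) ((AlgSpPts.isQuasiCompactSp_yon_iff _).2 inferInstance) (𝟙 _) (𝟙 _) q
      (IsPullback.of_horiz_isIso ⟨by rw [Category.id_comp, Category.comp_id]⟩)
  obtain ⟨T, f, hf, hfs⟩ :=
    EtQC.Chev.ProperCover.exists_finite_cover P q hqc (AlgSpDec.isQuasiSeparatedMor_of_isSeparatedMor hp.1)
  obtain ⟨t, ht⟩ := (yon S).map_surjective (f ≫ q)
  obtain ⟨hts, htu, htc⟩ := EtQC.Chev.ProperCover.properties_comp P q hqc hp.1 hp.2.2 f hf t ht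
  let t' : T.left ⟶ Spec (CommRingCat.of R) := t.left
  haveI : IsSeparated t' := hts
  haveI : UniversallyClosed t' := htu
  haveI : LocallyOfFiniteType t' := (repWith_yon_map_iff _ _).1 (repWith_of_locP (IsAlgSpace.yon_obj _)
    (representable_yon_map t) (by
      rw [ht]
      exact locP_comp (IsAlgSpace.yon_obj _) P.property (IsAlgSpace.yon_obj _)
        (locP_of_repWith (repWith_mono (fun _ _ g (_ : IsFinite g) => (inferInstance : LocallyOfFiniteType g)) _ hf))
        hp.2.1.1))
  haveI : IsProper t' := {}
  have hbase : ∀ w : ↥T.left, base str q (Points.ofPt f w) = t' w := fun w => base_ofPt ht w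
  -- the special fibre of the cover
  let F : Scheme.{u} := t'.fiber (cpt R)
  let ι : F ⟶ T.left := t'.fiberι (cpt R)
  let F' : Over S := Over.mk (ι ≫ T.hom)
  let ιO : F' ⟶ T := Over.homMk ι rfl
  let σ : F' ⟶ pc str := Over.homMk (t'.fiberToSpecResidueField (cpt R)) (by
    show _ ≫ _ ≫ str = ι ≫ T.hom
    rw [← Category.assoc, ← Over.w t]
    refine (congrArg (· ≫ str) ?_).trans (Category.assoc _ _ _)
    exact pullback.condition.symm)
  obtain ⟨γ, hγ, -⟩ := (IsPullback.of_hasPullback q ((yon S).map (jc str))).exists_lift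
    ((yon S).map ιO ≫ f) ((yon S).map σ) (by
      rw [Category.assoc, ← ht, ← Functor.map_comp, ← Functor.map_comp]
      exact congrArg _ (Over.OverMorphism.ext pullback.condition))
  have hγpt : ∀ a : ↥F, Points.map i (Points.ofPt γ a) = Points.ofPt f (ι a) := fun a => by
    rw [Points.map_ofPt, hγ, ofPt_comp]
    rfl
  haveI : Finite (_root_.ConnectedComponents ↥T.left) := by
    haveI : LocallyOfFiniteType (t'.fiberToSpecResidueField (cpt R)) := MorphismProperty.pullback_snd _ _ inferInstance
    haveI : QuasiCompact (t'.fiberToSpecResidueField (cpt R)) := MorphismProperty.pullback_snd _ _ inferInstance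
    haveI : IsLocallyNoetherian F := LocallyOfFiniteType.isLocallyNoetherian (t'.fiberToSpecResidueField (cpt R))
    haveI : CompactSpace ↥F := QuasiCompact.compactSpace_of_compactSpace (t'.fiberToSpecResidueField (cpt R))
    haveI : IsNoetherian F := {}
    haveI := finite_cc_of_noetherianSpace ↥F
    exact Finite.of_surjective _ (Groth.Agent.S8533.result R t').2
  refine ⟨cc_injective _ fun W hW => ?_, fun c => ?_⟩
  · let W₁ : Set ↥F := Points.ofPt γ ⁻¹' W
    have hW₁ : IsClopen W₁ := hW.preimage (Points.continuous_ofPt γ)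
    let W₂ : Set ↥T.left := ConnectedComponents.mk ⁻¹' (ι.continuous.connectedComponentsMap '' (ConnectedComponents.mk '' W₁))
    have hW₂ : IsClopen W₂ := isClopen_preimage_mk _
    have hW₂' : ∀ a, ι a ∈ W₂ ↔ a ∈ W₁ := fun a => by
      constructor
      · rintro ⟨_, ⟨b, hb, rfl⟩, he⟩
        have he' : ConnectedComponents.mk b = ConnectedComponents.mk a := (Groth.Agent.S8533.result R t').1 he
        exact hW₁.connectedComponent_subset hb (ConnectedComponents.coe_eq_coe'.1 he'.symm)
      · exact fun ha => ⟨_, ⟨a, ha, rfl⟩, rfl⟩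
    have hcm : IsClosedMap (Points.ofPt f) := by
      have h1 : IsClosedMap (Points.map f) :=
        isClosedMap_map (repWith_mono (fun _ _ g (_ : IsFinite g) => (inferInstance : UniversallyClosed g)) _ hf)
      have h2 : Points.ofPt f = Points.map f ∘ Points.ofScheme T := funext fun w => Points.ofPt_eq_map_ofScheme f w
      rw [h2]
      exact h1.comp (Points.schemeHomeo T).isClosedMap
    let A := Points.ofPt f '' W₂
    let B := Points.ofPt f '' W₂ᶜ
    have hfs' : Function.Surjective (Points.ofPt f) := fun x => by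
      obtain ⟨y, hy⟩ := hfs x
      obtain ⟨w, rfl⟩ := (Points.schemeHomeo T).surjective y
      exact ⟨w, (Points.ofPt_eq_map_ofScheme f w).trans hy⟩
    have hover : ∀ w, base str q (Points.ofPt f w) = cpt R → ∀ z, Points.map i z = Points.ofPt f w →
        (w ∈ W₂ ↔ z ∈ W) := by
      intro w hw z hz
      obtain ⟨a, rfl⟩ : w ∈ Set.range ι := by
        rw [show Set.range ι = t' ⁻¹' {cpt R} from t'.range_fiberι _]
        exact (hbase w).symm.trans hw
      rw [hinj (hz.trans (hγpt a).symm), hW₂' a]
      rfl
    have hdisj : Disjoint A B := by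
      rw [Set.disjoint_iff_inter_eq_empty, Set.eq_empty_iff_forall_notMem]
      intro x hx
      obtain ⟨y, ⟨⟨w, hw, rfl⟩, w', hw', he⟩, hy⟩ :=
        exists_mem_closedPoint hp ((hcm _ hW₂.1).inter (hcm _ hW₂.compl.1)) ⟨x, hx⟩
      obtain ⟨z, hz⟩ : Points.ofPt f w ∈ Set.range (Points.map i) := by
        rw [range_fst, Set.mem_preimage, hy, range_jc str]; rfl
      exact hw' ((hover w' (he ▸ hy) z (hz.trans he.symm)).2 ((hover w hy z hz).1 hw))
    have hAB : Aᶜ = B := by
      refine Set.Subset.antisymm (fun x hx => ?_) (hdisj.subset_compl_left)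
      obtain ⟨w, rfl⟩ := hfs' x
      exact ⟨w, fun h => hx ⟨w, h, rfl⟩, rfl⟩
    refine ⟨A, ⟨hcm _ hW₂.1, ?_⟩, Set.ext fun z => ?_⟩
    · rw [← isClosed_compl_iff, hAB]; exact hcm _ hW₂.compl.1
    · have hz0 : base str q (Points.map i z) = cpt R := by
        have : Points.map i z ∈ base str q ⁻¹' Set.range (jc str).left := (range_fst (jc str)).le ⟨z, rfl⟩
        rw [range_jc str] at this
        exact this
      constructor
      · rintro ⟨w, hw, he⟩
        exact (hover w (he ▸ hz0) z he.symm).1 hw
      · intro hz
        obtain ⟨w, hw⟩ := hfs' (Points.map i z)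
        exact ⟨w, (hover w (hw ▸ hz0) z hw.symm).2 hz, hw⟩
  · obtain ⟨x, rfl⟩ := ConnectedComponents.surjective_coe c
    obtain ⟨y, hy, hyc⟩ := exists_mem_closedPoint hp isClosed_connectedComponent ⟨x, mem_connectedComponent⟩
    obtain ⟨z, rfl⟩ : y ∈ Set.range (Points.map i) := by
      rw [range_fst, Set.mem_preimage, hyc, range_jc str]; rfl
    exact ⟨ConnectedComponents.mk z, ConnectedComponents.coe_eq_coe'.2 hy⟩

include hp hfl in
theorem surjective_generic [HenselianLocalRing R] [IsFractionRing R K] :
    Function.Surjective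
      (Points.continuous_map (pullback.fst q ((yon S).map (jg str K)))).connectedComponentsMap := by
  haveI := finite_cc_special hp
  haveI : Finite (_root_.ConnectedComponents (Points P.obj)) := Finite.of_surjective _ (bijective_special hp).2
  intro c
  obtain ⟨x, rfl⟩ := ConnectedComponents.surjective_coe c
  obtain ⟨z, hz⟩ := exists_mem_generic K hfl (isClopen_preimage_mk {ConnectedComponents.mk x}).2 ⟨x, rfl⟩
  exact ⟨ConnectedComponents.mk z, hz⟩

include hp hfl in
/-- Lower semicontinuity over a henselian valuation ring. -/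
theorem card_special_le [HenselianLocalRing R] [IsFractionRing R K] :
    ENat.card (_root_.ConnectedComponents (Points (Pc str q))) ≤
      ENat.card (_root_.ConnectedComponents (Points (Pg str K q))) := by
  rw [ENat.card_congr (Equiv.ofBijective _ (bijective_special hp))]
  exact ENat.card_le_card_of_injective (Function.injective_surjInv (surjective_generic K hp hfl))

include hp hfl in
theorem injective_generic [IsFractionRing R K] (hred : EtaleLocally (fun U => AlgebraicGeometry.IsReduced U) (Pc str q)) :
    Function.Injective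
      (Points.continuous_map (pullback.fst q ((yon S).map (jg str K)))).connectedComponentsMap := by
  haveI := finite_cc_pullback hp (jg str K)
  let i := pullback.fst q ((yon S).map (jg str K))
  have hmono : UniversallyInjective (jg str K).left := by
    refine (((tfae_universallyInjective _).out 1 0 rfl rfl) :).1 fun L _ g₁ g₂ hg => ?_
    obtain ⟨φ₁, rfl⟩ := Spec.map_surjective g₁
    obtain ⟨φ₂, rfl⟩ := Spec.map_surjective g₂
    have hg' : Spec.map φ₁ ≫ Spec.map (CommRingCat.ofHom (algebraMap R K)) =
        Spec.map φ₂ ≫ Spec.map (CommRingCat.ofHom (algebraMap R K)) := hg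
    simp only [← Spec.map_comp] at hg'
    congr 1
    exact CommRingCat.hom_ext (IsLocalization.ringHom_ext R⁰ (congrArg CommRingCat.Hom.hom (Spec.map_injective hg')))
  have hinj : Function.Injective (Points.map i) :=
    injective_map (repWith_mono (fun A B g (hg : UniversallyInjective g) => g.injective) _
      (repWith_of_isPullback (IsPullback.of_hasPullback q ((yon S).map (jg str K))).flip
        ((repWith_yon_map_iff _ _).2 hmono)))
  refine cc_injective _ fun W hW => ?_
  let A := closure (Points.map i '' W)
  let B := closure (Points.map i '' Wᶜ)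
  have hcov : A ∪ B = Set.univ := by
    rw [← closure_union, ← Set.image_union, Set.union_compl_self, Set.image_univ, Set.eq_univ_iff_forall]
    intro x
    rw [mem_closure_iff]
    intro O hO hxO
    obtain ⟨z, hz⟩ := exists_mem_generic K hfl hO ⟨x, hxO⟩
    exact ⟨_, hz, z, rfl⟩
  have hdisj : Disjoint A B := by
    rw [Set.disjoint_iff_inter_eq_empty, Set.eq_empty_iff_forall_notMem]
    intro x₀ hx₀
    obtain ⟨x, ⟨hxA, hxB⟩, hxc⟩ := exists_mem_closedPoint hp (isClosed_closure.inter isClosed_closure) ⟨x₀, hx₀⟩
    obtain ⟨U, c, u, hU, hc, hu⟩ := exists_affine_chart_at P.property x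
    haveI := hU
    obtain ⟨h, hh⟩ := (yon S).map_surjective (c ≫ q)
    let h' : U.left ⟶ Spec (CommRingCat.of R) := h.left
    haveI : Flat h' := hfl c (𝟙 _) h hc (repWith_id _ _) (by rw [hh, Category.comp_id])
    haveI : LocallyOfFiniteType h' := hp.2.1.1 c (𝟙 _) h hc (repWith_id _ _) (by rw [hh, Category.comp_id])
    -- the reduced special fibre of the chart
    let Fc : Over S := Over.mk (h'.fiberι (cpt R) ≫ U.hom)
    let σ : Fc ⟶ pc str := Over.homMk (h'.fiberToSpecResidueField (cpt R)) (by
      show _ ≫ _ ≫ str = _ ≫ U.hom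
      rw [← Category.assoc, ← Over.w h]
      refine (congrArg (· ≫ str) ?_).trans (Category.assoc _ _ _)
      exact pullback.condition.symm)
    let ιU : Fc ⟶ U := Over.homMk (h'.fiberι (cpt R)) rfl
    have sU := isPullback_yon_of_left ιU σ h (jc str) (IsPullback.of_hasPullback h'
      ((Spec (CommRingCat.of R)).fromSpecResidueField (cpt R)))
    have sq := IsPullback.of_hasPullback q ((yon S).map (jc str))
    let γ := sq.lift ((yon S).map ιU ≫ c) ((yon S).map σ) (by rw [Category.assoc, ← hh, sU.w])
    have sγ : IsPullback ((yon S).map ιU) γ c (pullback.fst q ((yon S).map (jc str))) :=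
      (IsPullback.of_bot (by
        rw [show γ ≫ pullback.snd q ((yon S).map (jc str)) = (yon S).map σ from sq.lift_snd _ _ _, ← hh]
        exact sU) (sq.lift_fst _ _ _).symm sq :)
    haveI hF : AlgebraicGeometry.IsReduced (h'.fiber (cpt R)) :=
      AlgSpDec.isReduced_chart hred (repWith_of_isPullback sγ hc)
    -- the algebra of the chart
    let V : U.left.Opens := ⊤
    have hV : IsAffineOpen V := isAffineOpen_top _
    let φ : CommRingCat.of R ⟶ Γ(U.left, V) := (Scheme.ΓSpecIso (CommRingCat.of R)).inv ≫ h'.appLE ⊤ V le_top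
    letI := φ.hom.toAlgebra
    have hφ : hV.fromSpec ≫ h' = Spec.map φ := by
      rw [Spec.map_comp, ← (isAffineOpen_top _).SpecMap_appLE_fromSpec h' hV le_top, IsAffineOpen.fromSpec_top,
        Scheme.isoSpec_Spec_inv]
    haveI : Flat (Spec.map φ) := hφ ▸ inferInstance
    haveI : LocallyOfFiniteType (Spec.map φ) := hφ ▸ inferInstance
    haveI : Algebra.FiniteType R Γ(U.left, V) := HasRingHomProperty.Spec_iff.mp ‹LocallyOfFiniteType (Spec.map φ)›
    haveI : Module.Flat R Γ(U.left, V) := (HasRingHomProperty.Spec_iff (P := @Flat)).mp ‹Flat (Spec.map φ)›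
    haveI : (cpt R : PrimeSpectrum R).asIdeal.IsMaximal := IsLocalRing.maximalIdeal.isMaximal R
    have hrad : ((IsLocalRing.maximalIdeal R).map (algebraMap R Γ(U.left, V))).IsRadical :=
      _root_.FlatMisc.isRadical_map_of_fiber_Spec h' hV (cpt R) hF
    let qq := hV.primeIdealOf ⟨u, trivial⟩
    have hqu : hV.fromSpec qq = u := hV.fromSpec_primeIdealOf _
    have hhu : h' u = cpt R := (base_ofPt hh u).symm.trans (hu.symm ▸ hxc)
    have hqle : IsLocalRing.maximalIdeal R ≤ qq.asIdeal.comap (algebraMap R Γ(U.left, V)) := by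
      have : PrimeSpectrum.comap (algebraMap R Γ(U.left, V)) qq = (cpt R : PrimeSpectrum R) := by
        show Spec.map φ qq = _
        rw [← hφ, Scheme.Hom.comp_apply, hqu]
        exact hhu
      exact (congrArg PrimeSpectrum.asIdeal this).ge
    -- the generic fibre of the chart
    let G := GenRing R Γ(U.left, V)
    let χ : K →+* G := IsLocalization.lift (M := R⁰) (g := algebraMap R G) fun r => by
      rw [IsScalarTower.algebraMap_apply R Γ(U.left, V) G]
      exact IsLocalization.map_units G
        (⟨_, r, r.2, rfl⟩ : Algebra.algebraMapSubmonoid Γ(U.left, V) R⁰)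
    have hχ : χ.comp (algebraMap R K) = (algebraMap Γ(U.left, V) G).comp φ.hom := by
      rw [IsLocalization.lift_comp, IsScalarTower.algebraMap_eq R Γ(U.left, V) G]
      rfl
    let eG : Spec (CommRingCat.of G) ⟶ U.left :=
      Spec.map (CommRingCat.ofHom (algebraMap Γ(U.left, V) G)) ≫ hV.fromSpec
    let Gx : Over S := Over.mk (eG ≫ U.hom)
    let eO : Gx ⟶ U := Over.homMk eG rfl
    have hw : eG ≫ h' = Spec.map (CommRingCat.ofHom χ) ≫ Spec.map (CommRingCat.ofHom (algebraMap R K)) := by
      rw [Category.assoc, hφ, ← Spec.map_comp, ← Spec.map_comp]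
      congr 1
      exact CommRingCat.hom_ext hχ.symm
    let σg : Gx ⟶ pg str K := Over.homMk (Spec.map (CommRingCat.ofHom χ)) (by
      show _ ≫ _ ≫ str = eG ≫ U.hom
      rw [← Category.assoc, ← hw, Category.assoc]
      exact congrArg (eG ≫ ·) (Over.w h))
    obtain ⟨ζ, hζ, -⟩ := (IsPullback.of_hasPullback q ((yon S).map (jg str K))).exists_lift
      ((yon S).map eO ≫ c) ((yon S).map σg) (by
        rw [Category.assoc, ← hh, ← Functor.map_comp, ← Functor.map_comp]
        exact congrArg _ (Over.OverMorphism.ext hw))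
    let Wg : Set (PrimeSpectrum G) := Points.ofPt ζ ⁻¹' W
    have hWg : IsClopen Wg := hW.preimage (Points.continuous_ofPt ζ)
    have key : ∀ (Z : Set (Points (Pg str K q))), Points.ofPt c u ∈ closure (Points.map i '' Z) →
        qq ∈ closure (PrimeSpectrum.comap (algebraMap Γ(U.left, V) G) '' (Points.ofPt ζ ⁻¹' Z)) := by
      intro Z hZ
      rw [mem_closure_iff]
      intro O hO hqO
      have hOU : IsOpen (hV.fromSpec '' O) := hV.fromSpec.isOpenEmbedding.isOpenMap _ hO
      obtain ⟨_, ⟨v, ⟨p, hp', rfl⟩, rfl⟩, z, hzZ, hz⟩ :=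
        mem_closure_iff.1 hZ _ (isOpenMap_ofPt hc _ hOU) ⟨u, ⟨qq, hqO, hqu⟩, rfl⟩
      have hv0 : h' (hV.fromSpec p) = (⟨⊥, Ideal.isPrime_bot⟩ : PrimeSpectrum R) := by
        have h1 : Points.map i z ∈ base str q ⁻¹' Set.range (jg str K).left := (range_fst (jg str K)).le ⟨z, rfl⟩
        rw [range_jg str K, hz, Set.mem_preimage, base_ofPt hh] at h1
        exact h1
      have hp0 : PrimeSpectrum.comap (algebraMap R Γ(U.left, V)) p = (⟨⊥, Ideal.isPrime_bot⟩ : PrimeSpectrum R) := by
        show Spec.map φ p = _
        rw [← hφ, Scheme.Hom.comp_apply]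
        exact hv0
      obtain ⟨p', hp''⟩ : p ∈ Set.range (PrimeSpectrum.comap (algebraMap Γ(U.left, V) G)) := by
        rw [PrimeSpectrum.localization_comap_range G (Algebra.algebraMapSubmonoid Γ(U.left, V) R⁰)]
        refine Set.disjoint_left.2 ?_
        rintro _ ⟨r, hr, rfl⟩ hrp
        have h2 : r ∈ (PrimeSpectrum.comap (algebraMap R Γ(U.left, V)) p).asIdeal := hrp
        rw [hp0] at h2
        exact nonZeroDivisors.ne_zero hr h2
      refine ⟨p, hp', p', ?_, hp''⟩
      show Points.ofPt ζ p' ∈ Z
      have h3 : Points.map i (Points.ofPt ζ p') = Points.map i z := by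
        rw [Points.map_ofPt, hζ, ofPt_comp, hz, ← hp'']
        rfl
      rw [hinj h3]
      exact hzZ
    rcases notMem_closure_or hWg qq hqle hrad with h0 | h0
    · exact h0 (key W (hu.symm ▸ hxA))
    · exact h0 (key Wᶜ (hu.symm ▸ hxB))
  have hAB : Aᶜ = B := Set.Subset.antisymm (fun x hx => ((Set.eq_univ_iff_forall.1 hcov x).resolve_left hx))
    hdisj.subset_compl_left
  refine ⟨A, ⟨isClosed_closure, ?_⟩, Set.ext fun z => ⟨fun hz => ?_, fun hz => subset_closure ⟨z, hz, rfl⟩⟩⟩
  · rw [← isClosed_compl_iff, hAB]; exact isClosed_closure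
  · by_contra hzW
    exact hdisj.le_bot ⟨hz, subset_closure ⟨z, hzW, rfl⟩⟩

include hp hfl in
/-- Constancy over a henselian valuation ring with reduced special fibre. -/
theorem card_special_eq [HenselianLocalRing R] [IsFractionRing R K]
    (hred : EtaleLocally (fun U => AlgebraicGeometry.IsReduced U) (Pc str q)) :
    ENat.card (_root_.ConnectedComponents (Points (Pc str q))) =
      ENat.card (_root_.ConnectedComponents (Points (Pg str K q))) := by
  rw [ENat.card_congr (Equiv.ofBijective _ (bijective_special hp)),
    ENat.card_congr (Equiv.ofBijective _ ⟨injective_generic K hp hfl hred, surjective_generic K hp hfl⟩)]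

end Groth.Agent.AlgSpDec.ConnVal
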