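import Groth.Agent.AlgSpDec.ConnVal.GeomRel
import Groth.Agent.AlgSpDec.ConnVal.Prop
import Groth.Agent.AlgSpDec.GeomComponents
import Groth.Agent.AlgSpDec.ConstrTop
import Groth.Agent.AlgSpDec.GeomRedGen

/-!
# The number of connected components of geometric fibres: constructibility
-/

set_option autoImplicit false
set_option backward.isDefEq.respectTransparency false
set_option backward.isDefEq.respectTransparency.types false

universe u

open CategoryTheory CategoryTheory.Limits AlgebraicGeometry AlgSp TopologicalSpace Topology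
open Groth.Agent.AlgSpLib Groth.Agent.AlgSpPts Groth.Agent.AlgSpDec

namespace Groth.Agent.AlgSpDec.ConnVal

variable {S : Scheme.{u}}

/-- Isomorphic pullbacks have equally many components. -/
theorem card_cc_eq_of_isPullback {A B C D D' : Sp S} {a : D ⟶ A} {b : D ⟶ B} {f : A ⟶ C} {g : B ⟶ C}
    (h : IsPullback a b f g) {a' : D' ⟶ A} {b' : D' ⟶ B} (h' : IsPullback a' b' f g) :
    ENat.card (_root_.ConnectedComponents (Points D)) = ENat.card (_root_.ConnectedComponents (Points D')) := by
  let e := h.isoIsPullback _ _ h'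
  let φ : Points D ≃ₜ Points D' :=
    { toFun := Points.map e.hom
      invFun := Points.map e.inv
      left_inv := fun x => by rw [← Points.map_comp, Iso.hom_inv_id, Points.map_id]
      right_inv := fun x => by rw [← Points.map_comp, Iso.inv_hom_id, Points.map_id]
      continuous_toFun := Points.continuous_map _
      continuous_invFun := Points.continuous_map _ }
  exact ENat.card_congr
    { toFun := φ.continuous.connectedComponentsMap
      invFun := φ.symm.continuous.connectedComponentsMap
      left_inv := fun x => by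
        obtain ⟨x, rfl⟩ := ConnectedComponents.surjective_coe x
        exact congrArg ConnectedComponents.mk (φ.symm_apply_apply x)
      right_inv := fun x => by
        obtain ⟨x, rfl⟩ := ConnectedComponents.surjective_coe x
        exact congrArg ConnectedComponents.mk (φ.apply_symm_apply x) }

variable {V W RW : Over S} [IsAffine V.left] [IsAffine W.left] {P : Space S}
  (π : P.obj ⟶ (yon S).obj V)

/-- The geometric point of a chart. -/
noncomputable abbrev gpt {Ω : Type u} [Field Ω] (v : Spec (CommRingCat.of Ω) ⟶ V.left) :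
    Over.mk (v ≫ V.hom) ⟶ V :=
  Over.homMk v rfl

/-- The fibre over a geometric point. -/
noncomputable abbrev Pv {Ω : Type u} [Field Ω] (v : Spec (CommRingCat.of Ω) ⟶ V.left) : Sp S :=
  pullback π ((yon S).map (gpt v))

variable {π}

section Chart

variable {c : (yon S).obj W ⟶ P.obj} (hc : RepWith @Etale c) (hcs : RepWith @Surjective c) {h : W ⟶ V}
  (hh : (yon S).map h = c ≫ π) {p₁ p₂ : RW ⟶ W}
  (sqR : IsPullback ((yon S).map p₁) ((yon S).map p₂) c c)

include hh sqR in
theorem p_comp_eq : p₁.left ≫ h.left = p₂.left ≫ h.left := by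
  have : (yon S).map (p₁ ≫ h) = (yon S).map (p₂ ≫ h) := by
    rw [Functor.map_comp, Functor.map_comp, hh, sqR.w_assoc]
  exact congrArg CommaMorphism.left ((yon S).map_injective this)

/-- The map of the relation to the product. -/
noncomputable abbrev relMap : RW.left ⟶ pullback h.left h.left :=
  pullback.lift p₁.left p₂.left (p_comp_eq hh sqR)

include hh sqR in
theorem isClosedImmersion_relMap (hp : IsSeparatedMor π) : IsClosedImmersion (relMap hh sqR) := by
  let Wp : Over S := Over.mk (pullback.fst h.left h.left ≫ W.hom)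
  let q₁ : Wp ⟶ W := Over.homMk (pullback.fst h.left h.left) rfl
  let q₂ : Wp ⟶ W := Over.homMk (pullback.snd h.left h.left) (by
    show pullback.snd h.left h.left ≫ W.hom = pullback.fst h.left h.left ≫ W.hom
    rw [← Over.w h, pullback.condition_assoc])
  have hq : q₁ ≫ h = q₂ ≫ h := Over.OverMorphism.ext pullback.condition
  let cc : (yon S).obj Wp ⟶ pullback π π := pullback.lift ((yon S).map q₁ ≫ c) ((yon S).map q₂ ≫ c) (by
    rw [Category.assoc, Category.assoc, ← hh, ← Functor.map_comp, ← Functor.map_comp, hq])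
  let mO : RW ⟶ Wp := Over.homMk (relMap hh sqR) (by
    show relMap hh sqR ≫ pullback.fst h.left h.left ≫ W.hom = RW.hom
    rw [pullback.lift_fst_assoc, Over.w p₁])
  have hm₁ : mO ≫ q₁ = p₁ := Over.OverMorphism.ext (pullback.lift_fst _ _ _)
  have hm₂ : mO ≫ q₂ = p₂ := Over.OverMorphism.ext (pullback.lift_snd _ _ _)
  have hw : ((yon S).map p₁ ≫ c) ≫ pullback.diagonal π = (yon S).map mO ≫ cc := by
    apply pullback.hom_ext
    · simp only [cc, Category.assoc, pullback.diagonal_fst, Category.comp_id, pullback.lift_fst]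
      rw [← Functor.map_comp_assoc, hm₁]
    · simp only [cc, Category.assoc, pullback.diagonal_snd, Category.comp_id, pullback.lift_snd]
      rw [← Functor.map_comp_assoc, hm₂, sqR.w]
  have sq : IsPullback ((yon S).map p₁ ≫ c) ((yon S).map mO) (pullback.diagonal π) cc := by
    refine ⟨⟨hw⟩, ⟨PullbackCone.IsLimit.mk _
      (fun s => sqR.lift (s.snd ≫ (yon S).map q₁) (s.snd ≫ (yon S).map q₂) ?_) (fun s => ?_) (fun s => ?_)
      (fun s l h1 h2 => ?_)⟩⟩
    · have e1 := s.condition =≫ pullback.fst π π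
      have e2 := s.condition =≫ pullback.snd π π
      simp only [cc, Category.assoc, pullback.diagonal_fst, pullback.diagonal_snd, Category.comp_id,
        pullback.lift_fst, pullback.lift_snd] at e1 e2
      rw [Category.assoc, Category.assoc, ← e1, ← e2]
    · have e1 := s.condition =≫ pullback.fst π π
      simp only [cc, Category.assoc, pullback.diagonal_fst, Category.comp_id, pullback.lift_fst] at e1
      rw [sqR.lift_fst_assoc, Category.assoc, ← e1]
    · obtain ⟨e, he⟩ : ∃ e, sqR.lift (s.snd ≫ (yon S).map q₁) (s.snd ≫ (yon S).map q₂) (by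
          have e1 := s.condition =≫ pullback.fst π π
          have e2 := s.condition =≫ pullback.snd π π
          simp only [cc, Category.assoc, pullback.diagonal_fst, pullback.diagonal_snd, Category.comp_id,
            pullback.lift_fst, pullback.lift_snd] at e1 e2
          rw [Category.assoc, Category.assoc, ← e1, ← e2]) = e := ⟨_, rfl⟩
      rw [he]
      refine (isPullback_yon_of_left q₁ q₂ h h (IsPullback.of_hasPullback h.left h.left)).hom_ext ?_ ?_
      · rw [Category.assoc, ← Functor.map_comp, hm₁, ← he, sqR.lift_fst]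
      · rw [Category.assoc, ← Functor.map_comp, hm₂, ← he, sqR.lift_snd]
    · refine sqR.hom_ext ?_ ?_
      · rw [sqR.lift_fst, ← h2, Category.assoc, ← Functor.map_comp, hm₁]
      · rw [sqR.lift_snd, ← h2, Category.assoc, ← Functor.map_comp, hm₂]
  exact hp.property _ _ _ sq

variable [LocallyOfFinitePresentation h.left]

include hc hh sqR in
theorem isConstructible_range_relMap (hp : IsSeparatedMor π) : IsConstructible (Set.range (relMap hh sqR)) := by
  haveI : Etale p₁.left := hc.property c ((yon S).map p₂) p₁ sqR.flip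
  haveI := isClosedImmersion_relMap hh sqR hp
  haveI : IsAffine RW.left := isAffine_of_isAffineHom (relMap hh sqR)
  haveI : LocallyOfFinitePresentation (relMap hh sqR ≫ pullback.fst h.left h.left) := by
    rw [pullback.lift_fst]; infer_instance
  haveI : LocallyOfFinitePresentation (relMap hh sqR) :=
    AlgSpPts.locallyOfFinitePresentation_of_comp (relMap hh sqR) (pullback.fst h.left h.left)
  rw [← Set.image_univ]
  exact GeomRel.isConstructible_image _ IsConstructible.univ

/-- The iterated relation. -/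
def E : ℕ → Set ↥(pullback h.left h.left)
  | 0 => Set.range (relMap hh sqR) ∪ GeomRel.sameComp h.left
  | n + 1 => GeomRel.comp h.left (E n) (Set.range (relMap hh sqR) ∪ GeomRel.sameComp h.left)

variable (hp : IsSeparatedMor π)

include hc hp in
theorem isConstructible_E (n : ℕ) : IsConstructible (E hh sqR n) := by
  induction n with
  | zero => exact (isConstructible_range_relMap hc hh sqR hp).union (GeomRel.isConstructible_sameComp h.left)
  | succ n ih =>
    exact GeomRel.isConstructible_comp h.left ih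
      ((isConstructible_range_relMap hc hh sqR hp).union (GeomRel.isConstructible_sameComp h.left))

variable {Ω : Type u} [Field Ω] [IsAlgClosed Ω] {v : Spec (CommRingCat.of Ω) ⟶ V.left}

include hc hp in
theorem rel_succ (n : ℕ) (a b : GeomRel.Pt h.left v) :
    GeomRel.Rel (E hh sqR (n + 1)) a b ↔ ∃ d, GeomRel.Rel (E hh sqR n) a d ∧ GeomRel.Rel (E hh sqR 0) d b :=
  GeomRel.rel_comp_iff (isConstructible_E hc hh sqR hp n) (isConstructible_E hc hh sqR hp 0) a b

include hh sqR in
theorem rel_zero_of_same {a b : GeomRel.Pt h.left v}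
    (hab : GeomRel.fpt b ∈ connectedComponent (GeomRel.fpt a)) : GeomRel.Rel (E hh sqR 0) a b :=
  Or.inr ((GeomRel.rel_sameComp_iff a b).2 hab)

include hc hp in
theorem rel_mono {n : ℕ} {a b : GeomRel.Pt h.left v} (hab : GeomRel.Rel (E hh sqR n) a b) :
    GeomRel.Rel (E hh sqR (n + 1)) a b :=
  (rel_succ hc hh sqR hp n a b).2 ⟨b, hab, rel_zero_of_same hh sqR mem_connectedComponent⟩

include hc hp in
theorem rel_left {n : ℕ} {a b d : GeomRel.Pt h.left v} (h1 : GeomRel.Rel (E hh sqR 0) a b)
    (h2 : GeomRel.Rel (E hh sqR n) b d) : GeomRel.Rel (E hh sqR (n + 1)) a d := by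
  induction n generalizing d with
  | zero => exact (rel_succ hc hh sqR hp 0 a d).2 ⟨b, h1, h2⟩
  | succ n ih =>
    obtain ⟨d', h3, h4⟩ := (rel_succ hc hh sqR hp n b d).1 h2
    exact (rel_succ hc hh sqR hp (n + 1) a d).2 ⟨d', ih h3, h4⟩

variable (v) in
/-- Stabilisation of the relation over a geometric point. -/
def Stable (n : ℕ) : Prop :=
  ∀ a b : GeomRel.Pt h.left v, GeomRel.Rel (E hh sqR (n + 1)) a b → GeomRel.Rel (E hh sqR n) a b

include hc hp in
theorem rel_of_stable {n : ℕ} (hn : Stable hh sqR v n) {m : ℕ} {a b : GeomRel.Pt h.left v}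
    (hm : GeomRel.Rel (E hh sqR m) a b) : GeomRel.Rel (E hh sqR n) a b := by
  induction m generalizing b with
  | zero =>
    clear hn
    induction n with
    | zero => exact hm
    | succ n ih => exact rel_mono hc hh sqR hp ih
  | succ m ih =>
    obtain ⟨d, h1, h2⟩ := (rel_succ hc hh sqR hp m a b).1 hm
    exact hn a b ((rel_succ hc hh sqR hp n a b).2 ⟨d, ih h1, h2⟩)

include hc hp in
theorem exists_stable : ∃ n, Stable hh sqR v n := by
  let F := pullback h.left v
  haveI : LocallyOfFiniteType (pullback.snd h.left v) := MorphismProperty.pullback_snd _ _ inferInstance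
  haveI : QuasiCompact (pullback.snd h.left v) := MorphismProperty.pullback_snd _ _ inferInstance
  haveI : IsLocallyNoetherian F := LocallyOfFiniteType.isLocallyNoetherian (pullback.snd h.left v)
  haveI : CompactSpace ↥F := QuasiCompact.compactSpace_of_compactSpace (pullback.snd h.left v)
  haveI : IsNoetherian F := {}
  haveI := finite_cc_of_noetherianSpace ↥F
  let mk : GeomRel.Pt h.left v → _root_.ConnectedComponents ↥F := fun a => ConnectedComponents.mk (GeomRel.fpt a)
  let T : ℕ → Set (_root_.ConnectedComponents ↥F × _root_.ConnectedComponents ↥F) := fun n =>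
    {x | ∃ a b, GeomRel.Rel (E hh sqR n) a b ∧ mk a = x.1 ∧ mk b = x.2}
  have hmono : Monotone T := monotone_nat_of_le_succ fun n x ⟨a, b, hab, h1, h2⟩ =>
    ⟨a, b, rel_mono hc hh sqR hp hab, h1, h2⟩
  haveI : WellFoundedGT (Set (_root_.ConnectedComponents ↥F × _root_.ConnectedComponents ↥F)) := Finite.to_wellFoundedGT
  obtain ⟨N, hN⟩ := WellFoundedGT.monotone_chain_condition ⟨T, hmono⟩
  refine ⟨N + 2, fun a b hab => ?_⟩
  have h1 : (mk a, mk b) ∈ T (N + 2 + 1) := ⟨a, b, hab, rfl, rfl⟩
  have h2 : (mk a, mk b) ∈ T N := by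
    rw [show T N = T (N + 2 + 1) from hN (N + 2 + 1) (by omega)]
    exact h1
  obtain ⟨a', b', hab', ha, hb⟩ := h2
  refine (rel_succ hc hh sqR hp (N + 1) a b).2 ⟨b', rel_left hc hh sqR hp (rel_zero_of_same hh sqR ?_) hab',
    rel_zero_of_same hh sqR ?_⟩
  · exact ConnectedComponents.coe_eq_coe'.1 ha
  · exact ConnectedComponents.coe_eq_coe'.1 hb.symm

/-- The scheme of points of the geometric fibre of a chart. -/
noncomputable abbrev Wv (v : Spec (CommRingCat.of Ω) ⟶ V.left) : Over S :=
  Over.mk (pullback.fst h.left v ≫ W.hom)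

variable (v) in
/-- The projection to the chart. -/
noncomputable abbrev g₁ : Wv (h := h) v ⟶ W := Over.homMk (pullback.fst h.left v) rfl

variable (v) in
/-- The projection to the geometric point. -/
noncomputable abbrev g₂ : Wv (h := h) v ⟶ Over.mk (v ≫ V.hom) := Over.homMk (pullback.snd h.left v) (by
  show pullback.snd h.left v ≫ v ≫ V.hom = pullback.fst h.left v ≫ W.hom
  rw [← pullback.condition_assoc, Over.w h])

include hc hcs hh sqR hp in
theorem exists_classify (hfin : Finite (_root_.ConnectedComponents (Points (Pv π v)))) :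
    ∃ Φ : GeomRel.Pt h.left v → _root_.ConnectedComponents (Points (Pv π v)), Function.Surjective Φ ∧
      ∀ a b, Φ a = Φ b ↔ ∃ n, GeomRel.Rel (E hh sqR n) a b := by
  have sU := isPullback_yon_of_left (g₁ v) (g₂ v) h (gpt v) (IsPullback.of_hasPullback h.left v)
  have sq := IsPullback.of_hasPullback π ((yon S).map (gpt v))
  let γ := sq.lift ((yon S).map (g₁ v) ≫ c) ((yon S).map (g₂ v)) (by rw [Category.assoc, ← hh, sU.w])
  have sγ : IsPullback ((yon S).map (g₁ v)) γ c (pullback.fst π ((yon S).map (gpt v))) :=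
    (IsPullback.of_bot (by
      rw [show γ ≫ pullback.snd π ((yon S).map (gpt v)) = (yon S).map (g₂ v) from sq.lift_snd _ _ _, ← hh]
      exact sU) (sq.lift_fst _ _ _).symm sq :)
  have hγ : RepWith @Etale γ := repWith_of_isPullback sγ hc
  have hγs : RepWith @Surjective γ := repWith_of_isPullback sγ hcs
  let G : ↥(pullback h.left v) → Points (Pv π v) := Points.ofPt γ
  have hGo : IsOpenMap G := isOpenMap_ofPt hγ
  have hGs : Function.Surjective G := surjective_ofPt hγs
  have hGc : Continuous G := Points.continuous_ofPt γ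
  let F := pullback h.left v
  haveI : LocallyOfFiniteType (pullback.snd h.left v) := MorphismProperty.pullback_snd _ _ inferInstance
  haveI : QuasiCompact (pullback.snd h.left v) := MorphismProperty.pullback_snd _ _ inferInstance
  haveI : JacobsonSpace ↥F := LocallyOfFiniteType.jacobsonSpace (pullback.snd h.left v)
  haveI : IsLocallyNoetherian F := LocallyOfFiniteType.isLocallyNoetherian (pullback.snd h.left v)
  haveI : CompactSpace ↥F := QuasiCompact.compactSpace_of_compactSpace (pullback.snd h.left v)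
  haveI : IsNoetherian F := {}
  haveI := finite_cc_of_noetherianSpace ↥F
  haveI : Subsingleton ↥(Spec (CommRingCat.of Ω)) := inferInstanceAs (Subsingleton (PrimeSpectrum Ω))
  -- closed points
  have closedPt : ∀ {w : ↥F}, IsClosed ({w} : Set ↥F) → ∃ a : GeomRel.Pt h.left v, GeomRel.fpt a = w := by
    intro w hw
    let σ := pointOfClosedPoint (pullback.snd h.left v) w hw
    refine ⟨⟨σ ≫ pullback.fst h.left v, by
      rw [Category.assoc, pullback.condition, pointOfClosedPoint_comp_assoc]⟩, ?_⟩
    have e : (pullback.lift (σ ≫ pullback.fst h.left v) (𝟙 _) (by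
        rw [Category.assoc, pullback.condition, pointOfClosedPoint_comp_assoc, Category.id_comp]) : _ ⟶ F) = σ :=
      pullback.hom_ext (by simp) (by simp [σ])
    exact (congrArg (fun m : Spec (CommRingCat.of Ω) ⟶ F => m (GeomRel.pt Ω)) e).trans
      (pointOfClosedPoint_apply _ _ _ _)
  let Φ : GeomRel.Pt h.left v → _root_.ConnectedComponents (Points (Pv π v)) :=
    fun a => ConnectedComponents.mk (G (GeomRel.fpt a))
  have hR0 : ∀ a b : GeomRel.Pt h.left v,
      GeomRel.pair a b (GeomRel.pt Ω) ∈ Set.range (relMap hh sqR) → G (GeomRel.fpt a) = G (GeomRel.fpt b) := by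
    intro a b hab
    haveI := isClosedImmersion_relMap hh sqR hp
    haveI : IsAffine RW.left := isAffine_of_isAffineHom (relMap hh sqR)
    obtain ⟨τ, hτ⟩ := GeomRel.range_eq_of_affine (relMap hh sqR) (GeomRel.pair a b) hab
    let O : Over S := Over.mk (v ≫ V.hom)
    let la : O ⟶ Wv (h := h) v := Over.homMk (pullback.lift a.1 (𝟙 _) (by rw [a.2, Category.id_comp]) :
      Spec (CommRingCat.of Ω) ⟶ F) (by
        show _ ≫ pullback.fst h.left v ≫ W.hom = v ≫ V.hom
        rw [pullback.lift_fst_assoc, ← Over.w h, ← Category.assoc, a.2])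
    let lb : O ⟶ Wv (h := h) v := Over.homMk (pullback.lift b.1 (𝟙 _) (by rw [b.2, Category.id_comp]) :
      Spec (CommRingCat.of Ω) ⟶ F) (by
        show _ ≫ pullback.fst h.left v ≫ W.hom = v ≫ V.hom
        rw [pullback.lift_fst_assoc, ← Over.w h, ← Category.assoc, b.2])
    have ha : τ ≫ p₁.left = a.1 := by
      have := hτ =≫ pullback.fst h.left h.left
      simpa only [Category.assoc, pullback.lift_fst] using this
    have hb : τ ≫ p₂.left = b.1 := by
      have := hτ =≫ pullback.snd h.left h.left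
      simpa only [Category.assoc, pullback.lift_snd] using this
    let τO : O ⟶ RW := Over.homMk τ (by
      show τ ≫ RW.hom = v ≫ V.hom
      rw [← Over.w p₁, ← Category.assoc, ha, ← Over.w h, ← Category.assoc, a.2])
    have e1 : la ≫ g₁ v = τO ≫ p₁ := Over.OverMorphism.ext ((pullback.lift_fst _ _ _).trans ha.symm)
    have e2 : lb ≫ g₁ v = τO ≫ p₂ := Over.OverMorphism.ext ((pullback.lift_fst _ _ _).trans hb.symm)
    have e3 : (yon S).map la ≫ γ = (yon S).map lb ≫ γ := by
      refine sq.hom_ext ?_ ?_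
      · rw [Category.assoc, Category.assoc, sq.lift_fst, ← Category.assoc, ← Category.assoc, ← Functor.map_comp,
          ← Functor.map_comp, e1, e2, Functor.map_comp, Functor.map_comp, Category.assoc, Category.assoc, sqR.w]
      · rw [Category.assoc, Category.assoc, sq.lift_snd, ← Functor.map_comp, ← Functor.map_comp]
        exact congrArg _ (Over.OverMorphism.ext ((pullback.lift_snd _ _ _).trans (pullback.lift_snd _ _ _).symm))
    have e4 := congrArg (fun m => Points.ofPt m (GeomRel.pt Ω)) e3
    simp only [ofPt_comp] at e4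
    exact e4
  have hstep : ∀ n (a b : GeomRel.Pt h.left v), GeomRel.Rel (E hh sqR n) a b → Φ a = Φ b := by
    have h0 : ∀ a b : GeomRel.Pt h.left v, GeomRel.Rel (E hh sqR 0) a b → Φ a = Φ b := by
      rintro a b (h1 | h1)
      · exact congrArg ConnectedComponents.mk (hR0 a b h1)
      · exact (congrArg hGc.connectedComponentsMap
          (ConnectedComponents.coe_eq_coe'.2 ((GeomRel.rel_sameComp_iff a b).1 h1))).symm
    intro n
    induction n with
    | zero => exact h0
    | succ n ih =>
      intro a b hab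
      obtain ⟨d, h1, h2⟩ := (rel_succ hc hh sqR hp n a b).1 hab
      exact (ih a d h1).trans (h0 d b h2)
  refine ⟨Φ, fun C => ?_, fun a b => ⟨fun hab => ?_, fun ⟨n, hn⟩ => hstep n a b hn⟩⟩
  · obtain ⟨x, rfl⟩ := ConnectedComponents.surjective_coe C
    obtain ⟨w, rfl⟩ := hGs x
    have hopen : IsOpen (G ⁻¹' (ConnectedComponents.mk ⁻¹' {ConnectedComponents.mk (G w)})) :=
      (isClopen_preimage_mk _).2.preimage hGc
    obtain ⟨w', hw', hwc⟩ := nonempty_inter_closedPoints ⟨w, (rfl : ConnectedComponents.mk (G w) = ConnectedComponents.mk (G w))⟩ hopen.isLocallyClosed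
    obtain ⟨a, rfl⟩ := closedPt hwc
    exact ⟨a, hw'⟩
  · let 𝒲 : Set ↥F := {w | ∃ a', (∃ n, GeomRel.Rel (E hh sqR n) a a') ∧ w ∈ connectedComponent (GeomRel.fpt a')}
    have hsat : ∀ w w', G w = G w' → w ∈ 𝒲 → w' ∈ 𝒲 := by
      rintro w w' hww ⟨a', ⟨n, hn⟩, hw⟩
      have sqv := hγ.rep.isPullback' γ
      obtain ⟨r, hr₁, hr₂⟩ := exists_ofPt_of_eq sqv hww
      let R' := hγ.rep.pullback γ
      let P₁ : R'.left ⟶ F := (hγ.rep.fst' γ).left
      let P₂ : R'.left ⟶ F := (hγ.rep.snd γ).left
      haveI : Etale P₁ := hγ.property _ _ _ sqv.flip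
      haveI : JacobsonSpace ↥R'.left := LocallyOfFiniteType.jacobsonSpace (P₁ ≫ pullback.snd h.left v)
      obtain ⟨r₀, hr₀, hr₀c⟩ := nonempty_inter_closedPoints (Z := connectedComponent r) ⟨r, mem_connectedComponent⟩
        isClosed_connectedComponent.isLocallyClosed
      let σ := pointOfClosedPoint (P₁ ≫ pullback.snd h.left v) r₀ hr₀c
      have hPP : P₁ ≫ pullback.snd h.left v = P₂ ≫ pullback.snd h.left v := by
        have h' := sqv.w =≫ pullback.snd π ((yon S).map (gpt v))
        simp only [Category.assoc, show γ ≫ pullback.snd π ((yon S).map (gpt v)) = (yon S).map (g₂ v) from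
          sq.lift_snd _ _ _, ← Functor.map_comp] at h'
        exact congrArg CommaMorphism.left ((yon S).map_injective h')
      let a₁ : GeomRel.Pt h.left v := ⟨σ ≫ P₁ ≫ pullback.fst h.left v, by
        rw [Category.assoc, Category.assoc, pullback.condition, ← Category.assoc P₁, pointOfClosedPoint_comp_assoc]⟩
      let b₁ : GeomRel.Pt h.left v := ⟨σ ≫ P₂ ≫ pullback.fst h.left v, by
        rw [Category.assoc, Category.assoc, pullback.condition, ← Category.assoc P₂, ← hPP,
          pointOfClosedPoint_comp_assoc]⟩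
      have hfa : GeomRel.fpt a₁ = P₁ r₀ := by
        have e : (pullback.lift a₁.1 (𝟙 _) (by rw [a₁.2, Category.id_comp]) : _ ⟶ F) = σ ≫ P₁ :=
          pullback.hom_ext (by simp [a₁]) (by simp [σ])
        refine (congrArg (fun m : Spec (CommRingCat.of Ω) ⟶ F => m (GeomRel.pt Ω)) e).trans ?_
        rw [Scheme.Hom.comp_apply]
        exact congrArg P₁ (pointOfClosedPoint_apply _ _ _ _)
      have hfb : GeomRel.fpt b₁ = P₂ r₀ := by
        have e : (pullback.lift b₁.1 (𝟙 _) (by rw [b₁.2, Category.id_comp]) : _ ⟶ F) = σ ≫ P₂ :=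
          pullback.hom_ext (by simp [b₁]) (by
            rw [pullback.lift_snd, Category.assoc, ← hPP]
            exact (pointOfClosedPoint_comp _ _ _).symm)
        refine (congrArg (fun m : Spec (CommRingCat.of Ω) ⟶ F => m (GeomRel.pt Ω)) e).trans ?_
        rw [Scheme.Hom.comp_apply]
        exact congrArg P₂ (pointOfClosedPoint_apply _ _ _ _)
      have hc₁ : P₁ r₀ ∈ connectedComponent w := hr₁ ▸
        (P₁.continuous.image_connectedComponent_subset r ⟨r₀, hr₀, rfl⟩)
      have hc₂ : P₂ r₀ ∈ connectedComponent w' := hr₂ ▸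
        (P₂.continuous.image_connectedComponent_subset r ⟨r₀, hr₀, rfl⟩)
      refine ⟨b₁, ⟨n + 1 + 1, (rel_succ hc hh sqR hp (n + 1) a b₁).2 ⟨a₁,
        (rel_succ hc hh sqR hp n a a₁).2 ⟨a', hn, rel_zero_of_same hh sqR ?_⟩, Or.inl ?_⟩⟩, ?_⟩
      · rw [hfa, connectedComponent_eq hw]; exact hc₁
      · -- the pair lies in the relation
        let O : Over S := Over.mk (v ≫ V.hom)
        let σO : O ⟶ R' := Over.homMk σ (by
          show σ ≫ R'.hom = v ≫ V.hom
          rw [← Over.w (hγ.rep.fst' γ)]
          show σ ≫ P₁ ≫ pullback.fst h.left v ≫ W.hom = v ≫ V.hom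
          rw [← Over.w h]
          simpa only [a₁, Category.assoc] using a₁.2 =≫ V.hom)
        have e : (yon S).map (σO ≫ hγ.rep.fst' γ ≫ g₁ v) ≫ c = (yon S).map (σO ≫ hγ.rep.snd γ ≫ g₁ v) ≫ c := by
          simp only [Functor.map_comp, Category.assoc]
          rw [show (yon S).map (g₁ v) ≫ c = γ ≫ pullback.fst π ((yon S).map (gpt v)) from sγ.w, ← Category.assoc _ γ,
            sqv.w, Category.assoc]
        obtain ⟨τ, hτ₁, hτ₂⟩ := sqR.exists_lift _ _ e
        obtain ⟨τ', rfl⟩ := (yon S).map_surjective τ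
        rw [← Functor.map_comp] at hτ₁ hτ₂
        have h₁ := congrArg CommaMorphism.left ((yon S).map_injective hτ₁)
        have h₂ := congrArg CommaMorphism.left ((yon S).map_injective hτ₂)
        have e' : τ'.left ≫ relMap hh sqR = GeomRel.pair a₁ b₁ := pullback.hom_ext
          (by rw [Category.assoc, pullback.lift_fst, pullback.lift_fst]; exact h₁)
          (by rw [Category.assoc, pullback.lift_snd, pullback.lift_snd]; exact h₂)
        exact ⟨τ'.left (GeomRel.pt Ω),
          (Scheme.Hom.comp_apply _ _ _).symm.trans (congrArg (fun m : Spec (CommRingCat.of Ω) ⟶ _ => m (GeomRel.pt Ω)) e')⟩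
      · rw [hfb, ← connectedComponent_eq hc₂]; exact mem_connectedComponent
    have h𝒲 : IsClopen 𝒲 := by
      have : 𝒲 = ConnectedComponents.mk ⁻¹' (ConnectedComponents.mk '' 𝒲) := by
        refine Set.Subset.antisymm (Set.subset_preimage_image _ _) ?_
        rintro w ⟨w₀, ⟨a', hn, hw₀⟩, he⟩
        refine ⟨a', hn, ?_⟩
        rw [connectedComponent_eq hw₀]
        exact ConnectedComponents.coe_eq_coe'.1 he.symm
      rw [this]
      exact isClopen_preimage_mk _
    have himg : (G '' 𝒲)ᶜ = G '' 𝒲ᶜ := by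
      ext x
      obtain ⟨w, rfl⟩ := hGs x
      exact ⟨fun hx => ⟨w, fun hw => hx ⟨w, hw, rfl⟩, rfl⟩,
        fun ⟨w₁, hw₁, he⟩ ⟨w₂, hw₂, he'⟩ => hw₁ (hsat w₂ w₁ (he'.trans he.symm) hw₂)⟩
    have hclo : IsClopen (G '' 𝒲) := ⟨⟨himg ▸ hGo _ h𝒲.1.isOpen_compl⟩, hGo _ h𝒲.2⟩
    have ha : GeomRel.fpt a ∈ 𝒲 := ⟨a, ⟨0, rel_zero_of_same hh sqR mem_connectedComponent⟩, mem_connectedComponent⟩
    obtain ⟨w, hw, hwb⟩ := hclo.connectedComponent_subset ⟨_, ha, rfl⟩ (ConnectedComponents.coe_eq_coe'.1 hab.symm)
    obtain ⟨a', ⟨n, hn⟩, hb⟩ := hsat w _ hwb hw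
    exact ⟨n + 1, (rel_succ hc hh sqR hp n a b).2 ⟨a', hn, rel_zero_of_same hh sqR hb⟩⟩

include hc hp in
theorem exists_uniform : ∃ J, ∀ (Ω : Type u) [Field Ω] [IsAlgClosed Ω] (v : Spec (CommRingCat.of Ω) ⟶ V.left),
    Stable hh sqR v J := by
  let e : pullback h.left h.left ⟶ V.left := pullback.fst h.left h.left ≫ h.left
  haveI : LocallyOfFinitePresentation (pullback.fst h.left h.left) := MorphismProperty.pullback_fst _ _ ‹_›
  have hd : ∀ n, IsConstructible (E hh sqR (n + 1) \ E hh sqR n) := fun n =>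
    (isConstructible_E hc hh sqR hp (n + 1)).sdiff (isConstructible_E hc hh sqR hp n)
  let L : ℕ → Set ↥V.left := fun n => e '' (E hh sqR (n + 1) \ E hh sqR n)
  have hL : ∀ n, IsConstructible (L n) := fun n => GeomRel.isConstructible_image e (hd n)
  have hiff : ∀ n (Ω : Type u) [Field Ω] [IsAlgClosed Ω] (v : Spec (CommRingCat.of Ω) ⟶ V.left),
      Stable hh sqR v n ↔ v (GeomRel.pt Ω) ∉ L n := by
    intro n Ω _ _ v
    constructor
    · rintro hst ⟨t, ht, htv⟩
      haveI : LocallyOfFiniteType e := inferInstance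
      obtain ⟨τ, hτ, hτd⟩ := GeomRel.exists_lift e (hd n) v ht htv
      obtain ⟨a, b, rfl⟩ := GeomRel.exists_pair τ hτ
      exact hτd.2 (hst a b hτd.1)
    · intro hv a b hab
      by_contra hn
      refine hv ⟨_, ⟨hab, hn⟩, ?_⟩
      rw [← Scheme.Hom.comp_apply]
      exact congrArg (fun m : Spec (CommRingCat.of Ω) ⟶ V.left => m (GeomRel.pt Ω))
        (show GeomRel.pair a b ≫ e = v by rw [pullback.lift_fst_assoc]; exact a.2)
  let π' := WithTopology.ofTopology (t := constructibleTopology ↥V.left)
  have hpt : ∀ x : ↥V.left, ∃ Ω : Type u, ∃ (_ : Field Ω) (_ : IsAlgClosed Ω) (v : Spec (CommRingCat.of Ω) ⟶ V.left),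
      v (GeomRel.pt Ω) = x := fun x =>
    ⟨AlgebraicClosure (V.left.residueField x), inferInstance, inferInstance,
      Spec.map (CommRingCat.ofHom (algebraMap (V.left.residueField x) (AlgebraicClosure (V.left.residueField x)))) ≫
        V.left.fromSpecResidueField x, by
      rw [Scheme.Hom.comp_apply]; exact Scheme.fromSpecResidueField_apply _ _⟩
  have hanti : ∀ n, L (n + 1) ⊆ L n := by
    intro n x hx
    obtain ⟨Ω, _, _, v, rfl⟩ := hpt x
    by_contra hn
    refine ((hiff (n + 1) Ω v).1 (fun a b hab => ?_)) hx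
    exact rel_mono hc hh sqR hp (rel_of_stable hc hh sqR hp ((hiff n Ω v).2 hn) hab)
  have hcov : ∀ x : ↥V.left, ∃ n, x ∉ L n := by
    intro x
    obtain ⟨Ω, _, _, v, rfl⟩ := hpt x
    obtain ⟨n, hn⟩ := exists_stable (v := v) hc hh sqR hp
    exact ⟨n, (hiff n Ω v).1 hn⟩
  obtain ⟨t, ht⟩ := (isCompact_univ (X := WithConstructibleTopology ↥V.left)).elim_finite_subcover
    (fun n => π' ⁻¹' (L n)ᶜ) (fun n => ((isClopen_of_isConstructible (hL n).compl).2))
    (fun x _ => Set.mem_iUnion.2 (hcov (π' x)))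
  refine ⟨t.sup id, fun Ω _ _ v => (hiff _ Ω v).2 ?_⟩
  intro hv
  obtain ⟨n, hnt, hn⟩ := Set.mem_iUnion₂.1 (ht (Set.mem_univ (WithTopology.toTopology _ (v (GeomRel.pt Ω)))))
  have hn' : v (GeomRel.pt Ω) ∉ L n := by simpa [π'] using hn
  exact hn' (antitone_nat_of_succ_le hanti (Finset.le_sup (f := id) hnt) hv)

end Chart

/-- Having at least `n` geometric connected components is constructible. -/
theorem exists_count_set (hp : IsProperMor π) (hlfp : LocP @LocallyOfFinitePresentation π) (n : ℕ) :
    ∃ Q : Set ↥V.left, IsConstructible Q ∧ ∀ (Ω : Type u) [Field Ω] [IsAlgClosed Ω]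
      (v : Spec (CommRingCat.of Ω) ⟶ V.left),
      v (GeomRel.pt Ω) ∈ Q ↔ (n : ℕ∞) ≤ ENat.card (_root_.ConnectedComponents (Points (Pv π v))) := by
  have hqc : IsQuasiCompactSp P.obj :=
    hp.2.1.2 (IsAlgSpace.yon_obj _) ((AlgSpPts.isQuasiCompactSp_yon_iff _).2 inferInstance) (𝟙 _) (𝟙 _) π
      (IsPullback.of_horiz_isIso ⟨by rw [Category.id_comp, Category.comp_id]⟩)
  obtain ⟨W, c, hW, hc, hcs⟩ := AlgSpDec.exists_affine_atlas hqc
  haveI := hW
  obtain ⟨h, hh⟩ := (yon S).map_surjective (c ≫ π)
  haveI : LocallyOfFinitePresentation h.left := hlfp c (𝟙 _) h hc (repWith_id _ _) (by rw [hh, Category.comp_id])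
  have sqR := hc.rep.isPullback' c
  obtain ⟨J, hJ⟩ := exists_uniform hc hh sqR hp.1
  obtain ⟨Q, hQ, hQ'⟩ := GeomRel.exists_hasSep_set h.left (isConstructible_E hc hh sqR hp.1 J) n
  refine ⟨Q, hQ, fun Ω _ _ v => (hQ' Ω v).trans ?_⟩
  have hfin : Finite (_root_.ConnectedComponents (Points (Pv π v))) := by
    have sq := IsPullback.of_hasPullback π ((yon S).map (gpt v))
    refine finite_cc (pullback.snd π ((yon S).map (gpt v)))
      (locP_of_isPullback sq P.property (IsAlgSpace.yon_obj _) (IsAlgSpace.yon_obj _) hp.2.1.1) ?_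
    exact (isQuasiCompactMor_of_isPullback sq hp.2.1.2) (IsAlgSpace.yon_obj _)
      ((AlgSpPts.isQuasiCompactSp_yon_iff _).2 (inferInstanceAs (CompactSpace (PrimeSpectrum Ω)))) (𝟙 _) (𝟙 _) _
      (IsPullback.of_horiz_isIso ⟨by rw [Category.id_comp, Category.comp_id]⟩)
  obtain ⟨Φ, hΦs, hΦ⟩ := exists_classify hc hcs hh sqR hp.1 hfin
  have hrel : ∀ a b, GeomRel.Rel (E hh sqR J) a b ↔ Φ a = Φ b := fun a b =>
    ⟨fun hab => (hΦ a b).2 ⟨J, hab⟩, fun hab => by
      obtain ⟨m, hm⟩ := (hΦ a b).1 hab
      exact rel_of_stable hc hh sqR hp.1 (hJ Ω v) hm⟩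
  letI := Fintype.ofFinite (_root_.ConnectedComponents (Points (Pv π v)))
  rw [ENat.card_eq_coe_fintype_card, Nat.cast_le]
  constructor
  · rintro ⟨f, -, hf⟩
    have hinj : Function.Injective (Φ ∘ f) := fun i j hij => by
      rcases lt_trichotomy i j with h' | h' | h'
      · exact absurd ((hrel _ _).2 hij) (hf i j h')
      · exact h'
      · exact absurd ((hrel _ _).2 hij.symm) (hf j i h')
    simpa using Fintype.card_le_of_injective _ hinj
  · intro hn
    let ι : Fin n → _root_.ConnectedComponents (Points (Pv π v)) := (Fintype.equivFin _).symm ∘ Fin.castLE hn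
    have hι : Function.Injective ι := (Fintype.equivFin _).symm.injective.comp (Fin.castLE_injective hn)
    refine ⟨Function.surjInv hΦs ∘ ι, fun _ => trivial, fun i j hij hr => ?_⟩
    have := (hrel _ _).1 hr
    simp only [Function.comp_apply, Function.surjInv_eq hΦs] at this
    exact hij.ne (hι this)

end Groth.Agent.AlgSpDec.ConnVal
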