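import Groth.Agent.H1Spread.Conn
import Groth.Agent.H1Spread.Constr
import Groth.Agent.RGLib.ApproxGeomCount
import Mathlib.AlgebraicGeometry.AlgClosed.Basic
import Mathlib.Topology.Spectral.ConstructibleTopology
import Groth.Agent.AlgSpPts.Sep

/-!
# Constructible relations on geometric points

For an affine morphism of finite presentation `h : W ⟶ V` a constructible subset of `W ×_V W` gives a
relation on the points of `W` with values in every algebraically closed field over `V`.  We show that
the relation "same connected component of the geometric fibre", compositions, and "there are `n`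
pairwise unrelated points" are all constructible.
-/

set_option autoImplicit false
set_option backward.isDefEq.respectTransparency false
set_option backward.isDefEq.respectTransparency.types false

universe u

open CategoryTheory CategoryTheory.Limits AlgebraicGeometry TopologicalSpace Topology

namespace Groth.Agent.AlgSpDec.GeomRel

/-- The point of a field. -/
noncomputable abbrev pt (Ω : Type u) [Field Ω] : ↥(Spec (CommRingCat.of Ω)) := IsLocalRing.closedPoint Ω

theorem isConstructible_preimage {X Y : Scheme.{u}} [IsAffine Y] (g : X ⟶ Y) {s : Set Y}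
    (hs : IsLocallyConstructible s) : IsConstructible (g ⁻¹' s) :=
  g.isConstructible_preimage hs.isConstructible

theorem isConstructible_image {X Y : Scheme.{u}} [IsAffine X] [IsAffine Y] (g : X ⟶ Y)
    [LocallyOfFinitePresentation g] {s : Set X} (hs : IsConstructible s) : IsConstructible (g '' s) :=
  (g.isLocallyConstructible_image hs.isLocallyConstructible).isConstructible

theorem exists_isLocallyClosed_subset {X : Type*} [TopologicalSpace X] {s : Set X} (hs : IsConstructible s) :
    (∀ x ∈ s, ∃ Z, IsLocallyClosed Z ∧ x ∈ Z ∧ Z ⊆ s) ∧ (∀ x ∈ sᶜ, ∃ Z, IsLocallyClosed Z ∧ x ∈ Z ∧ Z ⊆ sᶜ) := by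
  induction hs using IsConstructible.empty_union_induction with
  | open_retrocompact U hU hU' =>
    exact ⟨fun x hx => ⟨U, hU.isLocallyClosed, hx, le_rfl⟩,
      fun x hx => ⟨Uᶜ, hU.isClosed_compl.isLocallyClosed, hx, le_rfl⟩⟩
  | union s hs t ht hs' ht' =>
    refine ⟨?_, fun x hx => ?_⟩
    · rintro x (hx | hx)
      · obtain ⟨Z, h1, h2, h3⟩ := hs'.1 x hx
        exact ⟨Z, h1, h2, h3.trans Set.subset_union_left⟩
      · obtain ⟨Z, h1, h2, h3⟩ := ht'.1 x hx
        exact ⟨Z, h1, h2, h3.trans Set.subset_union_right⟩
    · rw [Set.compl_union] at hx ⊢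
      obtain ⟨Z, h1, h2, h3⟩ := hs'.2 x hx.1
      obtain ⟨Z', h1', h2', h3'⟩ := ht'.2 x hx.2
      exact ⟨Z ∩ Z', h1.inter h1', ⟨h2, h2'⟩, Set.inter_subset_inter h3 h3'⟩
  | compl s hs h => exact ⟨h.2, by rw [compl_compl]; exact h.1⟩

/-- A constructible set meeting the fibre over a geometric point has a geometric point over it. -/
theorem exists_lift {T Y : Scheme.{u}} [IsAffine T] (g : T ⟶ Y) [LocallyOfFiniteType g] {A : Set T}
    (hA : IsConstructible A) {Ω : Type u} [Field Ω] [IsAlgClosed Ω] (y : Spec (CommRingCat.of Ω) ⟶ Y) {t : T}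
    (ht : t ∈ A) (hty : g t = y (pt Ω)) :
    ∃ τ : Spec (CommRingCat.of Ω) ⟶ T, τ ≫ g = y ∧ τ (pt Ω) ∈ A := by
  let p := pullback.snd g y
  haveI : JacobsonSpace ↥(pullback g y) := LocallyOfFiniteType.jacobsonSpace p
  obtain ⟨z, hz, -⟩ := Scheme.Pullback.exists_preimage_pullback (f := g) (g := y) t (pt Ω) hty
  obtain ⟨Z, hZ, hzZ, hZA⟩ := (exists_isLocallyClosed_subset hA).1 _ (hz.symm ▸ ht)
  obtain ⟨w, hw, hwc⟩ := nonempty_inter_closedPoints (Z := (pullback.fst g y) ⁻¹' Z) ⟨z, hzZ⟩
    (hZ.preimage (pullback.fst g y).continuous)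
  refine ⟨pointOfClosedPoint p w hwc ≫ pullback.fst g y, ?_, ?_⟩
  · rw [Category.assoc, pullback.condition, pointOfClosedPoint_comp_assoc]
  · rw [Scheme.Hom.comp_apply, pointOfClosedPoint_apply]
    exact hZA hw

theorem range_eq_of_affine {T Y : Scheme.{u}} [IsAffine T] (g : T ⟶ Y) [LocallyOfFiniteType g]
    {Ω : Type u} [Field Ω] [IsAlgClosed Ω] (y : Spec (CommRingCat.of Ω) ⟶ Y) (h : y (pt Ω) ∈ Set.range g) :
    ∃ τ : Spec (CommRingCat.of Ω) ⟶ T, τ ≫ g = y := by
  obtain ⟨t, ht⟩ := h
  obtain ⟨τ, hτ, -⟩ := exists_lift g (A := Set.univ) IsConstructible.univ y (Set.mem_univ t) ht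
  exact ⟨τ, hτ⟩

variable {W V : Scheme.{u}} [IsAffine W] [IsAffine V] (h : W ⟶ V) [LocallyOfFinitePresentation h]
  {Ω : Type u} [Field Ω] [IsAlgClosed Ω] (v : Spec (CommRingCat.of Ω) ⟶ V)

/-- Points over a geometric point. -/
abbrev Pt : Type u := {a : Spec (CommRingCat.of Ω) ⟶ W // a ≫ h = v}

variable {h v}

/-- The point of the product given by two points. -/
noncomputable abbrev pair (a b : Pt h v) : Spec (CommRingCat.of Ω) ⟶ pullback h h :=
  pullback.lift a.1 b.1 (a.2.trans b.2.symm)

/-- The relation given by a subset of the product. -/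
def Rel (A : Set ↥(pullback h h)) (a b : Pt h v) : Prop := pair a b (pt Ω) ∈ A

theorem exists_pair (x : Spec (CommRingCat.of Ω) ⟶ pullback h h) (hx : x ≫ pullback.fst h h ≫ h = v) :
    ∃ a b : Pt h v, pair a b = x :=
  ⟨⟨x ≫ pullback.fst h h, by rw [Category.assoc, hx]⟩, ⟨x ≫ pullback.snd h h, by
    rw [Category.assoc, ← pullback.condition, hx]⟩, pullback.hom_ext (by simp) (by simp)⟩

variable (h)

/-- Triples of points. -/
noncomputable abbrev triple : Scheme.{u} := pullback (pullback.snd h h) (pullback.fst h h)

/-- The outer pair of a triple. -/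
noncomputable abbrev outer : triple h ⟶ pullback h h :=
  pullback.lift (pullback.fst _ _ ≫ pullback.fst h h) (pullback.snd _ _ ≫ pullback.snd h h) (by
    rw [Category.assoc, Category.assoc, pullback.condition, reassoc_of% (pullback.condition :
      pullback.fst (pullback.snd h h) (pullback.fst h h) ≫ pullback.snd h h = _), pullback.condition])

/-- The composite of two relations. -/
def comp (A B : Set ↥(pullback h h)) : Set ↥(pullback h h) :=
  outer h '' ((pullback.fst (pullback.snd h h) (pullback.fst h h)) ⁻¹' A ∩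
    (pullback.snd (pullback.snd h h) (pullback.fst h h)) ⁻¹' B)

instance lfp_outer : LocallyOfFinitePresentation (outer h) := by
  haveI : LocallyOfFinitePresentation (pullback.fst h h) := MorphismProperty.pullback_fst _ _ ‹_›
  haveI : LocallyOfFinitePresentation (pullback.fst (pullback.snd h h) (pullback.fst h h)) :=
    MorphismProperty.pullback_fst _ _ ‹_›
  haveI : LocallyOfFinitePresentation (outer h ≫ (pullback.fst h h ≫ h)) := by
    rw [pullback.lift_fst_assoc, Category.assoc]
    infer_instance
  exact Groth.Agent.AlgSpPts.locallyOfFinitePresentation_of_comp (outer h) (pullback.fst h h ≫ h)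

theorem isConstructible_comp {A B : Set ↥(pullback h h)} (hA : IsConstructible A) (hB : IsConstructible B) :
    IsConstructible (comp h A B) :=
  isConstructible_image _ ((isConstructible_preimage _ hA.isLocallyConstructible).inter
    (isConstructible_preimage _ hB.isLocallyConstructible))

variable {h}

theorem rel_comp_iff {A B : Set ↥(pullback h h)} (hA : IsConstructible A) (hB : IsConstructible B) (a c : Pt h v) :
    Rel (comp h A B) a c ↔ ∃ b, Rel A a b ∧ Rel B b c := by
  constructor
  · rintro ⟨t, ht, hto⟩
    haveI : LocallyOfFiniteType (outer h) := inferInstance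
    obtain ⟨τ, hτ, hτA⟩ := exists_lift (outer h) ((isConstructible_preimage _ hA.isLocallyConstructible).inter
      (isConstructible_preimage _ hB.isLocallyConstructible)) (pair a c) ht hto
    have h1 : τ ≫ pullback.fst _ _ ≫ pullback.fst h h = a.1 := by
      have := congrArg (· ≫ pullback.fst h h) hτ
      simpa only [Category.assoc, pullback.lift_fst] using this
    have h2 : τ ≫ pullback.snd _ _ ≫ pullback.snd h h = c.1 := by
      have := congrArg (· ≫ pullback.snd h h) hτ
      simpa only [Category.assoc, pullback.lift_snd] using this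
    let b : Pt h v := ⟨τ ≫ pullback.fst _ _ ≫ pullback.snd h h, by
      rw [Category.assoc, Category.assoc, ← pullback.condition, ← Category.assoc, ← Category.assoc,
        Category.assoc τ, h1]
      exact a.2⟩
    refine ⟨b, ?_, ?_⟩
    · have : pair a b = τ ≫ pullback.fst _ _ := pullback.hom_ext (by simp [h1]) (by simp [b])
      rw [Rel, this, Scheme.Hom.comp_apply]
      exact hτA.1
    · have : pair b c = τ ≫ pullback.snd _ _ := pullback.hom_ext (by
        rw [pullback.lift_fst, Category.assoc, ← pullback.condition]) (by simp [h2])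
      rw [Rel, this, Scheme.Hom.comp_apply]
      exact hτA.2
  · rintro ⟨b, h1, h2⟩
    let τ : Spec (CommRingCat.of Ω) ⟶ triple h := pullback.lift (pair a b) (pair b c) (by simp)
    refine ⟨τ (pt Ω), ⟨?_, ?_⟩, ?_⟩
    · rw [Set.mem_preimage, ← Scheme.Hom.comp_apply, pullback.lift_fst]; exact h1
    · rw [Set.mem_preimage, ← Scheme.Hom.comp_apply, pullback.lift_snd]; exact h2
    · rw [← Scheme.Hom.comp_apply]
      exact congrArg (fun m : Spec (CommRingCat.of Ω) ⟶ pullback h h => m (pt Ω))
        (pullback.hom_ext (by simp [τ]) (by simp [τ]) : τ ≫ outer h = pair a c)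

variable (h)

/-- The relation of lying in the same connected component of a geometric fibre. -/
def sameComp : Set ↥(pullback h h) := MoreMor.sectionComponents (pullback.fst h h) (pullback.diagonal h)

theorem isConstructible_sameComp : IsConstructible (sameComp h) := by
  haveI : LocallyOfFinitePresentation (pullback.fst h h) := MorphismProperty.pullback_fst _ _ ‹_›
  exact (Groth.Agent.H1Spread.isLocallyConstructible_sectionComponents (pullback.fst h h) (pullback.diagonal h)
    (pullback.diagonal_fst h)).isConstructible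

variable {h}

/-- The point of a geometric fibre given by a point. -/
noncomputable abbrev fpt (a : Pt h v) : ↥(pullback h v) :=
  (pullback.lift a.1 (𝟙 _) (by rw [a.2, Category.id_comp]) : Spec (CommRingCat.of Ω) ⟶ pullback h v) (pt Ω)

theorem connectedComponentIn_eq_image {X : Type*} [TopologicalSpace X] {F : Set X} {x : X} (hx : x ∈ F) :
    connectedComponentIn F x = Subtype.val '' connectedComponent (⟨x, hx⟩ : F) :=
  _root_.connectedComponentIn_eq_image hx

theorem rel_sameComp_iff (a b : Pt h v) :
    Rel (sameComp h) a b ↔ fpt b ∈ connectedComponent (fpt a) := by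
  set f := pullback.fst h h
  let a' : ↥W := a.1 (pt Ω)
  let F : Scheme.{u} := f.fiber a'
  let r : F ⟶ Spec (W.residueField a') := f.fiberToSpecResidueField a'
  let χ : W.residueField a' ⟶ CommRingCat.of Ω := Scheme.descResidueField (Scheme.stalkClosedPointTo a.1)
  have hχ : Spec.map χ ≫ W.fromSpecResidueField a' = a.1 :=
    Scheme.descResidueField_stalkClosedPointTo_fromSpecResidueField Ω _ a.1
  -- the map from the geometric fibre
  let Φ₀ : pullback h v ⟶ pullback h h :=
    pullback.lift (pullback.snd h v ≫ a.1) (pullback.fst h v) (by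
      rw [Category.assoc, a.2, ← pullback.condition])
  let Φ : pullback h v ⟶ F := pullback.lift Φ₀ (pullback.snd h v ≫ Spec.map χ) (by
    rw [pullback.lift_fst, Category.assoc, hχ])
  have sq : IsPullback Φ (pullback.snd h v) r (Spec.map χ) := by
    refine IsPullback.of_right ?_ (pullback.lift_snd _ _ _)
      (IsPullback.of_hasPullback f (W.fromSpecResidueField a'))
    rw [pullback.lift_fst, hχ]
    refine IsPullback.of_right ?_ (pullback.lift_fst _ _ _) (IsPullback.of_hasPullback h h).flip |>.flip.flip
    rw [pullback.lift_snd, a.2]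
    exact (IsPullback.of_hasPullback h v)
  let ι : F ⟶ pullback h h := f.fiberι a'
  have hΦ : ∀ c : Pt h v, ι (Φ (fpt c)) = pair a c (pt Ω) := fun c => by
    rw [fpt, ← Scheme.Hom.comp_apply, ← Scheme.Hom.comp_apply]
    refine congrArg (fun m : Spec (CommRingCat.of Ω) ⟶ pullback h h => m (pt Ω)) (pullback.hom_ext ?_ ?_)
    · simp only [Category.assoc, ι, Φ, Φ₀, Scheme.Hom.fiberι, pullback.lift_fst, pullback.lift_fst_assoc,
        pullback.lift_snd_assoc, Category.id_comp]
    · simp only [Category.assoc, ι, Φ, Φ₀, Scheme.Hom.fiberι, pullback.lift_snd, pullback.lift_fst_assoc,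
        pullback.lift_fst, Category.id_comp]
  have hfa : f (pair a b (pt Ω)) = a' := by rw [← Scheme.Hom.comp_apply, pullback.lift_fst]
  have hs : pullback.diagonal h a' = pair a a (pt Ω) := by
    rw [← Scheme.Hom.comp_apply]
    exact congrArg (fun m => m (pt Ω)) (pullback.hom_ext (by simp) (by simp) : a.1 ≫ pullback.diagonal h = pair a a)
  have key : Rel (sameComp h) a b ↔ Φ (fpt b) ∈ connectedComponent (Φ (fpt a)) := by
    let e := f.fiberHomeo a'
    have he : ∀ z, (e z).1 = ι z := fun z => rfl
    show pair a b (pt Ω) ∈ connectedComponentIn (f ⁻¹' {f (pair a b (pt Ω))}) (pullback.diagonal h (f (pair a b (pt Ω)))) ↔ _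
    have hma : pair a a (pt Ω) ∈ f ⁻¹' {a'} := by
      rw [Set.mem_preimage, Set.mem_singleton_iff, ← Scheme.Hom.comp_apply, pullback.lift_fst]
    rw [hfa, hs, connectedComponentIn_eq_image hma]
    have h1 : (⟨pair a a (pt Ω), hma⟩ : ↥(f ⁻¹' {a'})) = e (Φ (fpt a)) := Subtype.ext ((he _).trans (hΦ a)).symm
    rw [h1]
    constructor
    · rintro ⟨z, hz, hzv⟩
      have h2 : z = e (Φ (fpt b)) := Subtype.ext (hzv.trans ((he _).trans (hΦ b)).symm)
      subst h2
      have := (isConnected_connectedComponent.isPreconnected.image e.symm e.symm.continuous.continuousOn).subset_connectedComponent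
        ⟨e (Φ (fpt a)), mem_connectedComponent, e.symm_apply_apply _⟩ ⟨_, hz, e.symm_apply_apply _⟩
      exact this
    · intro hb
      refine ⟨e (Φ (fpt b)), ?_, (he _).trans (hΦ b)⟩
      exact (isConnected_connectedComponent.isPreconnected.image e e.continuous.continuousOn).subset_connectedComponent
        ⟨_, mem_connectedComponent, rfl⟩ ⟨_, hb, rfl⟩
  rw [key]
  constructor
  · intro hb
    -- the component of the rational point is geometrically connected
    haveI : LocallyOfFiniteType r := MorphismProperty.pullback_snd _ _ (MorphismProperty.pullback_fst _ _ inferInstance)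
    haveI : QuasiCompact r := MorphismProperty.pullback_snd _ _ inferInstance
    haveI : IsLocallyNoetherian F := LocallyOfFiniteType.isLocallyNoetherian r
    haveI : CompactSpace ↥F := QuasiCompact.compactSpace_of_compactSpace r
    haveI : IsNoetherian F := {}
    haveI : Finite ↥(irreducibleComponents ↥F) := NoetherianSpace.finite_irreducibleComponents.to_subtype
    let C : Set ↥F := connectedComponent (Φ (fpt a))
    have hCo : IsOpen C := by
      rw [← isClosed_compl_iff]
      have hh : Cᶜ = ⋃ Z ∈ {Z | Z ∈ irreducibleComponents ↥F ∧ ¬ Z ⊆ C}, Z := by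
        ext z
        simp only [Set.mem_iUnion₂, Set.mem_compl_iff]
        constructor
        · intro hz
          exact ⟨irreducibleComponent z, ⟨irreducibleComponent_mem_irreducibleComponents z,
            fun h => hz (h mem_irreducibleComponent)⟩, mem_irreducibleComponent⟩
        · rintro ⟨Z, ⟨hZ, hZC⟩, hzZ⟩ hzC
          refine hZC ?_
          show Z ⊆ connectedComponent _
          rw [connectedComponent_eq hzC]
          exact hZ.1.isPreirreducible.isPreconnected.subset_connectedComponent hzZ
      rw [hh]
      exact (NoetherianSpace.finite_irreducibleComponents.subset fun Z hZ => hZ.1).isClosed_biUnion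
        fun Z hZ => isClosed_of_mem_irreducibleComponents Z hZ.1
    let O : F.Opens := ⟨C, hCo⟩
    haveI : ConnectedSpace ↥O.toScheme := isConnected_iff_connectedSpace.1 isConnected_connectedComponent
    let g : O.toScheme ⟶ Spec (W.residueField a') := O.ι ≫ r
    haveI : LocallyOfFiniteType g := inferInstance
    haveI : Subsingleton ↥(Spec (W.residueField a')) := inferInstanceAs (Subsingleton (PrimeSpectrum (W.residueField a')))
    let σ₀ : Spec (W.residueField a') ⟶ F :=
      pullback.lift (W.fromSpecResidueField a' ≫ pullback.diagonal h) (𝟙 _) (by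
        rw [Category.assoc, pullback.diagonal_fst, Category.comp_id, Category.id_comp])
    have hσ₀ : ∀ s, σ₀ s = Φ (fpt a) := fun s => by
      refine (f.fiberι a').isEmbedding.injective ?_
      rw [show f.fiberι a' (Φ (fpt a)) = _ from hΦ a, ← hs, ← Scheme.Hom.comp_apply]
      show (σ₀ ≫ pullback.fst _ _) s = _
      rw [pullback.lift_fst, Scheme.Hom.comp_apply, Scheme.fromSpecResidueField_apply]
    let σ := IsOpenImmersion.lift O.ι σ₀ (by
      rintro _ ⟨s, rfl⟩
      rw [Scheme.Opens.range_ι, hσ₀]
      exact mem_connectedComponent)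
    haveI : GeometricallyConnected g := by
      refine (RGLib.ApproxCount.geometricallyConnected_iff g).2 fun y => ?_
      refine Groth.Agent.H1Spread.nGeomConnComp_eq_one_of_point g y ?_
        ((Spec (W.residueField a')).fromSpecResidueField y ≫ σ) ?_
      · rw [Set.eq_univ_of_forall (s := g ⁻¹' {y}) fun z => Subsingleton.elim _ _]
        exact isConnected_univ
      · rw [Category.assoc, IsOpenImmersion.lift_fac_assoc]
        erw [pullback.lift_snd]
        rw [Category.comp_id]
    haveI : ConnectedSpace ↥(pullback g (Spec.map χ)) :=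
      GeometricallyConnected.geometrically_connectedSpace _ _ _ (IsPullback.of_hasPullback g (Spec.map χ))
    let j : pullback g (Spec.map χ) ⟶ pullback h v :=
      sq.lift (pullback.fst _ _ ≫ O.ι) (pullback.snd _ _) (by rw [Category.assoc]; exact pullback.condition)
    have hj : ∀ c : Pt h v, Φ (fpt c) ∈ C → fpt c ∈ Set.range j := fun c hc => by
      let γ : Spec (CommRingCat.of Ω) ⟶ pullback h v :=
        pullback.lift c.1 (𝟙 _) (by rw [c.2, Category.id_comp])
      have hγ : γ ≫ Φ ≫ r = Spec.map χ := by
        rw [sq.w, pullback.lift_snd_assoc, Category.id_comp]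
      haveI : Subsingleton ↥(Spec (CommRingCat.of Ω)) := inferInstanceAs (Subsingleton (PrimeSpectrum Ω))
      let γ' := IsOpenImmersion.lift O.ι (γ ≫ Φ) (by
        rintro _ ⟨s, rfl⟩
        rw [Scheme.Opens.range_ι, Scheme.Hom.comp_apply, Subsingleton.elim s (pt Ω)]
        exact hc)
      refine ⟨(pullback.lift γ' (𝟙 _) (by
        rw [IsOpenImmersion.lift_fac_assoc, Category.assoc, hγ, Category.id_comp]) :
          Spec (CommRingCat.of Ω) ⟶ pullback g (Spec.map χ)) (pt Ω), ?_⟩
      rw [← Scheme.Hom.comp_apply]
      refine congrArg (fun m : Spec (CommRingCat.of Ω) ⟶ pullback h v => m (pt Ω)) (sq.hom_ext ?_ ?_)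
      · simp only [Category.assoc, j, IsPullback.lift_fst, pullback.lift_fst_assoc, γ', IsOpenImmersion.lift_fac]
        rfl
      · simp [j, γ]
    exact (isPreconnected_range j.continuous).subset_connectedComponent (hj a mem_connectedComponent) (hj b hb)
  · intro hb
    exact (isConnected_connectedComponent.isPreconnected.image Φ Φ.continuous.continuousOn).subset_connectedComponent
      ⟨_, mem_connectedComponent, rfl⟩ ⟨_, hb, rfl⟩

/-- There are `n` allowed points, pairwise unrelated. -/
def HasSep (E : Set ↥(pullback h h)) (n : ℕ) (ok : Pt h v → Prop) : Prop :=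
  ∃ f : Fin n → Pt h v, (∀ i, ok (f i)) ∧ ∀ i j, i < j → ¬ Rel E (f i) (f j)

variable (h) in
theorem exists_sep_set {E : Set ↥(pullback h h)} (hE : IsConstructible E) (n : ℕ) :
    ∀ (Z : Scheme.{u}) [IsAffine Z] (g : Z ⟶ V) (A : Set ↥(pullback g h)), IsConstructible A →
      ∃ Q : Set ↥Z, IsConstructible Q ∧ ∀ (Ω : Type u) [Field Ω] [IsAlgClosed Ω]
        (z : Spec (CommRingCat.of Ω) ⟶ Z),
        z (pt Ω) ∈ Q ↔ HasSep (v := z ≫ g) E n
          (fun a => (pullback.lift z a.1 a.2.symm : Spec (CommRingCat.of Ω) ⟶ pullback g h) (pt Ω) ∈ A) := by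
  induction n with
  | zero =>
    exact fun Z _ g A _ => ⟨Set.univ, IsConstructible.univ, fun Ω _ _ z =>
      ⟨fun _ => ⟨Fin.elim0, fun i => i.elim0, fun i => i.elim0⟩, fun _ => trivial⟩⟩
  | succ n ih =>
    intro Z _ g A hA
    let g' : pullback g h ⟶ V := pullback.fst g h ≫ g
    let p : pullback g' h ⟶ pullback g h :=
      pullback.map g' h g h (pullback.fst g h) (𝟙 _) (𝟙 _) (by simp [g']) (by simp)
    let w : pullback g' h ⟶ pullback h h :=
      pullback.map g' h h h (pullback.snd g h) (𝟙 _) (𝟙 _) (by simp [g', pullback.condition]) (by simp)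
    let A' : Set ↥(pullback g' h) := (pullback.fst g' h) ⁻¹' A ∩ p ⁻¹' A ∩ (w ⁻¹' E)ᶜ
    have hA' : IsConstructible A' :=
      ((isConstructible_preimage _ hA.isLocallyConstructible).inter
        (isConstructible_preimage _ hA.isLocallyConstructible)).inter
        (isConstructible_preimage _ hE.isLocallyConstructible).compl
    obtain ⟨Q', hQ', hQ''⟩ := ih (pullback g h) g' A' hA'
    haveI : LocallyOfFinitePresentation (pullback.fst g h) := MorphismProperty.pullback_fst _ _ ‹_›
    refine ⟨pullback.fst g h '' (A ∩ Q'), isConstructible_image _ (hA.inter hQ'), fun Ω _ _ z => ?_⟩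
    constructor
    · rintro ⟨t, ht, htz⟩
      obtain ⟨τ, hτ, hτA, hτQ⟩ := exists_lift (pullback.fst g h) (hA.inter hQ') z ht htz
      have e : τ ≫ g' = z ≫ g := by rw [← hτ, Category.assoc]
      obtain ⟨f, hf, hf'⟩ := (hQ'' Ω τ).1 hτQ
      let a₀ : Pt h (z ≫ g) := ⟨τ ≫ pullback.snd g h, by rw [Category.assoc, ← pullback.condition]; exact e⟩
      let f₁ : Fin n → Pt h (z ≫ g) := fun i => ⟨(f i).1, (f i).2.trans e⟩
      refine ⟨Fin.cons a₀ f₁, ?_, ?_⟩
      · intro i
        refine Fin.cases ?_ (fun i => ?_) i
        · simp only [Fin.cons_zero]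
          have : (pullback.lift z a₀.1 a₀.2.symm : _ ⟶ pullback g h) = τ :=
            pullback.hom_ext (by simp [hτ]) (by simp [a₀])
          rw [this]; exact hτA
        · simp only [Fin.cons_succ]
          have h1 := (hf i).1.2
          rw [Set.mem_preimage, ← Scheme.Hom.comp_apply] at h1
          have : (pullback.lift z (f₁ i).1 (f₁ i).2.symm : _ ⟶ pullback g h) =
              pullback.lift τ (f i).1 (f i).2.symm ≫ p :=
            pullback.hom_ext (by simp [p, f₁, hτ]) (by simp [p, f₁])
          rw [this]; exact h1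
      · intro i j hij
        induction j using Fin.cases with
        | zero => exact absurd hij (Fin.not_lt_zero i)
        | succ j =>
          induction i using Fin.cases with
          | zero =>
            simp only [Fin.cons_zero, Fin.cons_succ]
            intro hr
            have : pair a₀ (f₁ j) = pullback.lift τ (f j).1 (f j).2.symm ≫ w :=
              pullback.hom_ext (by simp [w, a₀]) (by simp [w, f₁])
            rw [Rel, this, Scheme.Hom.comp_apply] at hr
            exact (hf j).2 hr
          | succ i =>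
            simp only [Fin.cons_succ]
            exact fun hr => hf' i j (Fin.succ_lt_succ_iff.1 hij) hr
    · rintro ⟨f, hf, hf'⟩
      let τ : Spec (CommRingCat.of Ω) ⟶ pullback g h := pullback.lift z (f 0).1 (f 0).2.symm
      have e : τ ≫ g' = z ≫ g := by simp [τ, g']
      refine ⟨τ (pt Ω), ⟨hf 0, (hQ'' Ω τ).2 ⟨fun i => ⟨(f i.succ).1, (f i.succ).2.trans e.symm⟩, fun i => ?_,
        fun i j hij hr => hf' i.succ j.succ (Fin.succ_lt_succ_iff.2 hij) hr⟩⟩, ?_⟩
      · refine ⟨⟨?_, ?_⟩, ?_⟩
        · rw [Set.mem_preimage, ← Scheme.Hom.comp_apply, pullback.lift_fst]; exact hf 0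
        · rw [Set.mem_preimage, ← Scheme.Hom.comp_apply]
          have : (pullback.lift τ (f i.succ).1 ((f i.succ).2.trans e.symm).symm ≫ p) =
              pullback.lift z (f i.succ).1 (f i.succ).2.symm := pullback.hom_ext (by simp [p, τ]) (by simp [p])
          rw [this]; exact hf i.succ
        · rw [Set.mem_compl_iff, Set.mem_preimage, ← Scheme.Hom.comp_apply]
          have : (pullback.lift τ (f i.succ).1 ((f i.succ).2.trans e.symm).symm ≫ w) = pair (f 0) (f i.succ) :=
            pullback.hom_ext (by simp [w, τ]) (by simp [w])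
          rw [this]; exact hf' 0 i.succ (Fin.succ_pos i)
      · rw [← Scheme.Hom.comp_apply, pullback.lift_fst]

variable (h) in
/-- Having `n` pairwise unrelated points is a constructible condition on the base. -/
theorem exists_hasSep_set {E : Set ↥(pullback h h)} (hE : IsConstructible E) (n : ℕ) :
    ∃ Q : Set ↥V, IsConstructible Q ∧ ∀ (Ω : Type u) [Field Ω] [IsAlgClosed Ω]
      (v : Spec (CommRingCat.of Ω) ⟶ V), v (pt Ω) ∈ Q ↔ HasSep (v := v) E n (fun _ => True) := by
  obtain ⟨Q, hQ, hQ'⟩ := exists_sep_set h hE n V (𝟙 V) Set.univ IsConstructible.univ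
  refine ⟨Q, hQ, fun Ω _ _ v => (hQ' Ω v).trans ?_⟩
  constructor
  · rintro ⟨f, -, hf⟩
    exact ⟨fun i => ⟨(f i).1, (f i).2.trans (Category.comp_id v)⟩, fun _ => trivial, fun i j hij hr => hf i j hij hr⟩
  · rintro ⟨f, -, hf⟩
    exact ⟨fun i => ⟨(f i).1, (f i).2.trans (Category.comp_id v).symm⟩, fun _ => trivial, fun i j hij hr => hf i j hij hr⟩

end Groth.Agent.AlgSpDec.GeomRel
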