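import Groth.Agent.AlgSpDec.ConnVal.Alg
import Groth.Agent.AlgSpDec.ConnVal.Count
import Groth.Agent.AlgSpDec.BddFibres
import Groth.Agent.AlgSpDec.MonoRep

/-!
# Semicontinuity of the number of geometric connected components
-/

set_option autoImplicit false
set_option backward.isDefEq.respectTransparency false
set_option backward.isDefEq.respectTransparency.types false

universe u

open CategoryTheory CategoryTheory.Limits AlgebraicGeometry AlgSp TopologicalSpace Topology
open Groth.Agent.AlgSpLib Groth.Agent.AlgSpPts Groth.Agent.AlgSpDec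

namespace Groth.Agent.AlgSpDec.ConnVal

variable {S : Scheme.{u}} {X Y : Space S} (f : X ⟶ Y) {V : Over S} (a : (yon S).obj V ⟶ Y.obj)

/-- The restriction of the source to a chart. -/
noncomputable abbrev Pb : Space S :=
  ⟨pullback f.hom a, isAlgSpace_pullback X.property (IsAlgSpace.yon_obj V) Y.property _ _⟩

/-- The restriction of a morphism to a chart. -/
noncomputable abbrev prA : (Pb f a).obj ⟶ (yon S).obj V := pullback.snd f.hom a

/-- A geometric point over a point. -/
noncomputable abbrev vgeo (x : ↥V.left) :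
    Spec (CommRingCat.of (AlgebraicClosure (V.left.residueField x))) ⟶ V.left :=
  Spec.map (CommRingCat.ofHom (algebraMap (V.left.residueField x) (AlgebraicClosure (V.left.residueField x)))) ≫
    V.left.fromSpecResidueField x

theorem vgeo_apply (x : ↥V.left) (s) : vgeo x s = x := by
  rw [Scheme.Hom.comp_apply]; exact Scheme.fromSpecResidueField_apply _ _

/-- The number of components of the geometric fibre over a point. -/
noncomputable def count (x : ↥V.left) : ℕ∞ :=
  ENat.card (_root_.ConnectedComponents (Points (Pv (prA f a) (vgeo x))))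

theorem mk_fieldPtOfHom {L : Type u} [Field L] {w : Spec (CommRingCat.of L) ⟶ S} (j : Over.mk w ⟶ V)
    (s : ↥(Spec (CommRingCat.of L))) :
    Points.mk (fieldPtOfHom w ((yon S).map j ≫ a)) = Points.ofPt a (j.left s) := by
  rw [← Points.ofPt_toHom (fieldPtOfHom w ((yon S).map j ≫ a)) s, toHom_fieldPtOfHom]
  exact ofPt_comp j a s

theorem isPullback_over {r : Over S} (j : r ⟶ V) {D : Sp S} {d₁ : D ⟶ (Pb f a).obj} {d₂ : D ⟶ (yon S).obj r}
    (sq : IsPullback d₁ d₂ (prA f a) ((yon S).map j)) :
    IsPullback (d₁ ≫ pullback.fst f.hom a) d₂ f.hom ((yon S).map j ≫ a) :=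
  sq.paste_horiz (IsPullback.of_hasPullback f.hom a)

/-- Geometric fibres over a point have `count` components. -/
theorem card_fibre (x : ↥V.left) (k : FieldPt Y.obj) (hk : k.IsGeometric)
    (hkk : Points.mk k = Points.ofPt a x) {Xk : Sp S} {a' : Xk ⟶ X.obj} {b' : Xk ⟶ (yon S).obj k.pt}
    (h : IsPullback a' b' f.hom k.toHom) :
    ENat.card (_root_.ConnectedComponents (Points Xk)) = count f a x := by
  have h1 := mk_fieldPtOfHom a (gpt (vgeo x)) (IsLocalRing.closedPoint _)
  have h0 : (gpt (vgeo x)).left (IsLocalRing.closedPoint _) = x := vgeo_apply x _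
  rw [h0] at h1
  exact GeomComponents.encard_fibre_eq f.hom _ k (inferInstanceAs (IsAlgClosed (AlgebraicClosure _))) hk
    (h1.trans hkk.symm)
    (by rw [toHom_fieldPtOfHom]; exact isPullback_over f a _ (IsPullback.of_hasPullback _ _)) h

/-- Base changes to geometric points have `count` components. -/
theorem card_over {L : Type u} [Field L] [IsAlgClosed L] {w : Spec (CommRingCat.of L) ⟶ S}
    (j : Over.mk w ⟶ V) (s : ↥(Spec (CommRingCat.of L))) {D : Sp S} {d₁ : D ⟶ (Pb f a).obj}
    {d₂ : D ⟶ (yon S).obj (Over.mk w)} (sq : IsPullback d₁ d₂ (prA f a) ((yon S).map j)) :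
    ENat.card (_root_.ConnectedComponents (Points D)) = count f a (j.left s) :=
  card_fibre f a _ (fieldPtOfHom w ((yon S).map j ≫ a)) ‹IsAlgClosed L› (mk_fieldPtOfHom a j s)
    (by rw [toHom_fieldPtOfHom]; exact isPullback_over f a j sq)

/-- The condition on all geometric fibres over a point is the condition on `count`. -/
theorem forall_iff (x : ↥V.left) (p : ℕ∞ → Prop) :
    (∀ (k : FieldPt Y.obj), Points.mk k = Points.ofPt a x → k.IsGeometric →
      ∀ (Xk : Sp S) (a' : Xk ⟶ X.obj) (b' : Xk ⟶ (yon S).obj k.pt), IsPullback a' b' f.hom k.toHom →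
        p (ENat.card (_root_.ConnectedComponents (Points Xk)))) ↔ p (count f a x) := by
  refine ⟨fun h => ?_, fun h k hkk hk Xk a' b' sq => by rw [card_fibre f a x k hk hkk sq]; exact h⟩
  have h1 := mk_fieldPtOfHom a (gpt (vgeo x)) (IsLocalRing.closedPoint _)
  have h0 : (gpt (vgeo x)).left (IsLocalRing.closedPoint _) = x := vgeo_apply x _
  rw [h0] at h1
  have sq := isPullback_over f a _ (IsPullback.of_hasPullback (prA f a) ((yon S).map (gpt (vgeo x))))
  exact h _ h1 (inferInstanceAs (IsAlgClosed (AlgebraicClosure _))) _ _ _ (by rw [toHom_fieldPtOfHom]; exact sq)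

theorem isAlgClosed_residueField_cpt {K : Type u} [Field K] [IsAlgClosed K] (A : ValuationSubring K) :
    IsAlgClosed ((Spec (CommRingCat.of A)).residueField (cpt A)) := by
  letI : Field (A ⧸ (IsLocalRing.maximalIdeal A)) := Ideal.Quotient.field _
  haveI h1 : IsAlgClosed (A ⧸ (IsLocalRing.maximalIdeal A)) := isAlgClosed_residueField A
  let e₁ := RingEquiv.ofBijective _ (Ideal.bijective_algebraMap_quotient_residueField (IsLocalRing.maximalIdeal A))
  haveI := IsAlgClosed.of_ringEquiv _ _ e₁
  let e₂ : (IsLocalRing.maximalIdeal A).ResidueField ≃+* (Spec (CommRingCat.of A)).residueField (cpt A) :=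
    (Scheme.Spec.residueFieldIso (CommRingCat.of A) (cpt A)).symm.commRingCatIsoToRingEquiv
  exact IsAlgClosed.of_ringEquiv _ _ e₂

variable {f a}

theorem count_ne_top (hp : IsProperMor (prA f a)) (x : ↥V.left) : count f a x ≠ ⊤ := by
  have sq := IsPullback.of_hasPullback (prA f a) ((yon S).map (gpt (vgeo x)))
  have : Finite (_root_.ConnectedComponents (Points (Pv (prA f a) (vgeo x)))) := by
    refine finite_cc (pullback.snd (prA f a) ((yon S).map (gpt (vgeo x))))
      (locP_of_isPullback sq (Pb f a).property (IsAlgSpace.yon_obj _) (IsAlgSpace.yon_obj _) hp.2.1.1) ?_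
    exact (isQuasiCompactMor_of_isPullback sq hp.2.1.2) (IsAlgSpace.yon_obj _)
      ((AlgSpPts.isQuasiCompactSp_yon_iff _).2 (inferInstanceAs (CompactSpace (PrimeSpectrum _)))) (𝟙 _) (𝟙 _) _
      (IsPullback.of_horiz_isIso ⟨by rw [Category.id_comp, Category.comp_id]⟩)
  exact ne_of_lt ENat.card_lt_top_of_finite

theorem count_specializes (hp : IsProperMor (prA f a)) (hfl : LocP @Flat (prA f a)) {y y' : ↥V.left}
    (hsp : y' ⤳ y) :
    count f a y ≤ count f a y' ∧
      ((∀ (k : FieldPt Y.obj) (Xk : Sp S) (a' : Xk ⟶ X.obj) (b' : Xk ⟶ (yon S).obj k.pt),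
        IsPullback a' b' f.hom k.toHom → EtaleLocally (fun U => AlgebraicGeometry.IsReduced U) Xk) →
        count f a y = count f a y') := by
  let K := AlgebraicClosure (V.left.residueField y')
  let φ' : V.left.residueField y' ⟶ CommRingCat.of K := CommRingCat.ofHom (algebraMap (V.left.residueField y') K)
  let g : V.left.presheaf.stalk y ⟶ CommRingCat.of K :=
    V.left.presheaf.stalkSpecializes hsp ≫ V.left.residue y' ≫ φ'
  obtain ⟨A, hA, hloc⟩ := IsLocalRing.exists_factor_valuationRing g.hom
  let g' : V.left.presheaf.stalk y ⟶ CommRingCat.of A := CommRingCat.ofHom (g.hom.codRestrict A.toSubring hA)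
  haveI : IsLocalHom g'.hom := hloc
  let hA' := Spec.map g' ≫ V.left.fromSpecStalk y
  have hcl : hA' (IsLocalRing.closedPoint A) = y := by
    show V.left.fromSpecStalk y (Spec.map g' (IsLocalRing.closedPoint A)) = y
    rw [show Spec.map g' (IsLocalRing.closedPoint A) = IsLocalRing.closedPoint (V.left.presheaf.stalk y) from
      IsLocalRing.comap_closedPoint g'.hom, Scheme.fromSpecStalk_closedPoint]
  have hcomp : Spec.map (CommRingCat.ofHom (algebraMap A K)) ≫ hA' = vgeo y' := by
    show Spec.map (CommRingCat.ofHom A.subtype) ≫ hA' = Spec.map φ' ≫ V.left.fromSpecResidueField y'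
    rw [← Spec.map_comp_assoc, Scheme.fromSpecResidueField,
      ← Scheme.SpecMap_stalkSpecializes_fromSpecStalk hsp, ← Spec.map_comp_assoc, ← Spec.map_comp_assoc]
    rfl
  let str : Spec (CommRingCat.of A) ⟶ S := hA' ≫ V.hom
  let t : Over.mk str ⟶ V := Over.homMk hA' rfl
  let P' : Space S := ⟨pullback (prA f a) ((yon S).map t),
    isAlgSpace_pullback (Pb f a).property (IsAlgSpace.yon_obj _) (IsAlgSpace.yon_obj _) _ _⟩
  let q : P'.obj ⟶ (yon S).obj (Over.mk str) := pullback.snd (prA f a) ((yon S).map t)
  have sqT : IsPullback (pullback.fst (prA f a) ((yon S).map t)) q (prA f a) ((yon S).map t) :=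
    IsPullback.of_hasPullback _ _
  have hp' : IsProperMor q :=
    isProperMor_of_isPullback sqT (Pb f a).property (IsAlgSpace.yon_obj _) (IsAlgSpace.yon_obj _) hp
  have hfl' : LocP @Flat q :=
    locP_of_isPullback sqT (Pb f a).property (IsAlgSpace.yon_obj _) (IsAlgSpace.yon_obj _) hfl
  haveI := isAlgClosed_residueField_cpt A
  have sqc := (IsPullback.of_hasPullback q ((yon S).map (jc str))).paste_horiz sqT
  rw [← Functor.map_comp] at sqc
  have sqg := (IsPullback.of_hasPullback q ((yon S).map (jg str K))).paste_horiz sqT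
  rw [← Functor.map_comp] at sqg
  have ec : ENat.card (_root_.ConnectedComponents (Points (Pc str q))) = count f a y := by
    rw [card_over (L := (Spec (CommRingCat.of A)).residueField (cpt A)) f a (jc str ≫ t) (IsLocalRing.closedPoint _) sqc]
    congr 1
    show ((Spec (CommRingCat.of A)).fromSpecResidueField (cpt A) ≫ hA') _ = y
    rw [Scheme.Hom.comp_apply]
    exact (congrArg hA' (Scheme.fromSpecResidueField_apply _ _)).trans hcl
  have eg : ENat.card (_root_.ConnectedComponents (Points (Pg str K q))) = count f a y' := by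
    rw [card_over f a (jg str K ≫ t) (IsLocalRing.closedPoint _) sqg]
    congr 1
    show (Spec.map (CommRingCat.ofHom (algebraMap A K)) ≫ hA') _ = y'
    rw [hcomp]
    exact vgeo_apply y' _
  rw [← ec, ← eg]
  refine ⟨card_special_le K hp' hfl', fun hred => card_special_eq K hp' hfl' ?_⟩
  exact hred (fieldPtOfHom _ ((yon S).map (jc str ≫ t) ≫ a)) _ _ _
    (by rw [toHom_fieldPtOfHom]; exact isPullback_over f a _ sqc)

variable [IsAffine V.left]

theorem isOpen_of_stable {T : Set ↥V.left} (hT : IsConstructible T)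
    (hst : ∀ y y' : ↥V.left, y' ⤳ y → y ∈ T → y' ∈ T) : IsOpen T := by
  let e := Scheme.homeoOfIso V.left.isoSpec
  have h2 : IsOpen (e.symm ⁻¹' T : Set (PrimeSpectrum Γ(V.left, ⊤))) :=
    PrimeSpectrum.isOpen_of_stableUnderGeneralization_of_isConstructible
      (fun p q hqp hp => hst _ _ (hqp.map e.symm.continuous) hp)
      (hT.preimage_of_isOpenEmbedding e.symm.isOpenEmbedding)
  simpa [← Set.preimage_comp] using e.isOpen_preimage.2 h2

theorem isConstructible_count (hp : IsProperMor (prA f a)) (hlfp : LocP @LocallyOfFinitePresentation (prA f a))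
    (n : ℕ) : IsConstructible {x : ↥V.left | (n : ℕ∞) ≤ count f a x} := by
  obtain ⟨Q, hQ, hQ'⟩ := exists_count_set hp hlfp n
  convert hQ using 1
  ext x
  have h := hQ' (AlgebraicClosure (V.left.residueField x)) (vgeo x)
  rw [vgeo_apply] at h
  exact h.symm

theorem isOpen_lt_count (hp : IsProperMor (prA f a)) (hfl : LocP @Flat (prA f a))
    (hlfp : LocP @LocallyOfFinitePresentation (prA f a)) (d : ℕ∞) : IsOpen {x : ↥V.left | d < count f a x} := by
  induction d using ENat.recTopCoe with
  | top => simp
  | coe n =>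
    refine isOpen_of_stable ?_ (fun y y' hsp h => lt_of_lt_of_le h (count_specializes hp hfl hsp).1)
    convert isConstructible_count hp hlfp (n + 1) using 1
    ext x
    simp [ENat.add_one_le_iff (ENat.coe_ne_top n)]

theorem isOpen_count_eq (hp : IsProperMor (prA f a)) (hfl : LocP @Flat (prA f a))
    (hlfp : LocP @LocallyOfFinitePresentation (prA f a))
    (hred : ∀ (k : FieldPt Y.obj) (Xk : Sp S) (a' : Xk ⟶ X.obj) (b' : Xk ⟶ (yon S).obj k.pt),
      IsPullback a' b' f.hom k.toHom → EtaleLocally (fun U => AlgebraicGeometry.IsReduced U) Xk)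
    (d : ℕ∞) : IsOpen {x : ↥V.left | count f a x = d} := by
  induction d using ENat.recTopCoe with
  | top =>
    convert isOpen_empty
    ext x
    simpa using count_ne_top hp x
  | coe n =>
    refine isOpen_of_stable ?_ (fun y y' hsp h => ((count_specializes hp hfl hsp).2 hred).symm.trans h)
    convert (isConstructible_count hp hlfp n).sdiff (isConstructible_count hp hlfp (n + 1)) using 1
    ext x
    simp [ENat.add_one_le_iff (ENat.coe_ne_top n), le_antisymm_iff, and_comm]

end Groth.Agent.AlgSpDec.ConnVal
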